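/-
The Tits group has trivial Schur multiplier.
-/
import Cfsg.Agent.Lib.Twisted.Tits.MultOdd

set_option autoImplicit false
set_option linter.style.haveILetI false

namespace Cfsg.Agent.Twisted.Tits

open Cfsg.Lie Chev BNSetup
open Cfsg.Agent.RootBN (OTwist)
open Cfsg.Agent.RootBN.OTwist
open Cfsg.Agent.Twisted.F4

theorem multiplier_one_of_map {A B : Type} [Group A] [Group B] [Finite A] (f : A ≃* B) {K : Subgroup A}
    {L : Subgroup B} (hmap : K.map f.toMonoidHom = L)
    (h : ∀ (Γ : Type) [Group Γ] [Finite Γ] (σ : Γ →* ↥K), Cfsg.IsStemExtension σ →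
      ∀ p : ℕ, p.Prime → (∀ z ∈ σ.ker, z ^ p = 1) → σ.ker = ⊥) :
    Cfsg.HasCyclicSchurMultiplier ↥L 1 := by
  let e : ↥K ≃* ↥L := (f.subgroupMap K).trans (MulEquiv.subgroupCongr hmap)
  haveI : Finite ↥L := Finite.of_equiv _ e.toEquiv
  refine Schur.hasCyclicSchurMultiplier_one_of_exponent fun p hp Γ _ _ σ hs hexp => ?_
  have hk : (e.symm.toMonoidHom.comp σ).ker = σ.ker :=
    MonoidHom.ker_comp_of_injective σ e.symm.toMonoidHom e.symm.injective
  have := h Γ (e.symm.toMonoidHom.comp σ)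
    ⟨e.symm.surjective.comp hs.1, hk ▸ hs.2.1, hk ▸ hs.2.2⟩ p hp (hk ▸ hexp)
  rwa [hk] at this

theorem multiplier_twisted {F : Type} [Field F] [CharP F 2] [Fintype F]
    (hK : Fintype.card F = 2 ^ (2 * 0 + 1)) :
    Cfsg.HasCyclicSchurMultiplier ↥(commutator ↥(twistedF4 F (2 ^ 0))) 1 := by
  have hmap : ((sgn hK).ker).map (equivTwisted hK).toMonoidHom = commutator ↥(twistedF4 F (2 ^ 0)) := by
    rw [← commutator_eq_ker hK, commutator_def, Subgroup.map_commutator,
      Subgroup.map_top_of_surjective _ (equivTwisted hK).surjective, commutator_def]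
  exact multiplier_one_of_map (equivTwisted hK) hmap fun Γ _ _ σ hs p hp hexp =>
    stem_ker_eq_bot hK σ hs hp hexp

theorem multiplier_tits : Cfsg.HasCyclicSchurMultiplier Cfsg.Lie.TitsGroup 1 := by
  haveI : Fact (Nat.Prime 2) := ⟨Nat.prime_two⟩
  exact multiplier_twisted (F := ZMod 2) (by rw [ZMod.card]; rfl)

end Cfsg.Agent.Twisted.Tits
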