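/-
Large subgroups of the Sylow 2-subgroup of the Tits group: a subgroup of index at most 32 meets the
central four-group, and one of index at most 16 contains the central involution.
-/
import Cfsg.Agent.Lib.Twisted.Tits.Data
import Cfsg.Agent.Lib.Twisted.Tits.Collect
import Cfsg.Agent.Lib.PGroup.Frattini

set_option autoImplicit false
set_option linter.style.haveILetI false

namespace Cfsg.Agent.Twisted.Tits.USub

/-! ### Sets of numbers below 32 as bit masks -/

/-- The mask of a predicate below `n`. -/
def mkN (f : ℕ → Bool) : ℕ → ℕ
  | 0 => 0
  | n + 1 => if f n then mkN f n ||| 2 ^ n else mkN f n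

theorem testBit_mkN (f : ℕ → Bool) : ∀ n i, (mkN f n).testBit i = (decide (i < n) && f i) := by
  intro n
  induction n with
  | zero => simp [mkN]
  | succ n ih =>
    intro i
    rcases Nat.lt_trichotomy i n with h | rfl | h
    · simp only [mkN]
      split <;> simp [Nat.testBit_or, ih, Nat.testBit_two_pow, h, h.ne', Nat.lt_succ_of_lt h]
    · simp only [mkN]
      split <;> simp_all [Nat.testBit_or, Nat.testBit_two_pow]
    · simp only [mkN]
      split <;> simp [Nat.testBit_or, ih, Nat.testBit_two_pow, h.ne, Nat.not_lt.2 h.le,
        Nat.not_lt.2 (show n + 1 ≤ i from h)]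

/-- The mask of a predicate below 32. -/
def mk (f : ℕ → Bool) : ℕ := mkN f 32

theorem testBit_mk (f : ℕ → Bool) (i : ℕ) : (mk f).testBit i = (decide (i < 32) && f i) :=
  testBit_mkN f 32 i

/-- The mask translated by `e`. -/
def trans (S e : ℕ) : ℕ := mk fun a => S.testBit (a ^^^ e)

/-- The span of a mask and one more number. -/
def span (S e : ℕ) : ℕ := S ||| trans S e

/-- The preimage of a mask under a table. -/
def pre (p : List ℕ) (S : ℕ) : ℕ := mk fun a => S.testBit (p.getD a 0)

/-- The number of members of a mask. -/
def size (S : ℕ) : ℕ := ((Finset.range 32).filter fun a => S.testBit a = true).card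

/-- The subspaces avoiding 16, their last greedy generator, and orbit certificates, by dimension. -/
def lv (k : ℕ) : List (ℕ × ℕ × List (ℕ × ℕ × Bool)) :=
  [
  [
    (1, 0, [])],
  [
    (3, 1, [(32769, 0, true), (2147483649, 1, false)]), (5, 2, [(4194305, 0, true), (67108865, 1, true)]),
    (9, 3, [(33554433, 0, true), (513, 1, false)]), (17, 4, [(268435457, 0, true), (4097, 1, false)]),
    (33, 5, [(524289, 0, true), (513, 1, true)]), (65, 6, [(1025, 0, true), (67108865, 1, false)]),
    (129, 7, [(33, 0, true), (524289, 1, true)]), (257, 8, [(16777217, 0, false)]),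
    (513, 9, [(33554433, 0, false), (129, 0, true)]),
    (1025, 10, [(67108865, 0, false), (1073741825, 0, true)]),
    (2049, 11, [(134217729, 0, false), (131073, 0, true)]),
    (4097, 12, [(268435457, 0, false), (1048577, 0, true)]),
    (8193, 13, [(536870913, 0, false), (134217729, 0, true)]),
    (16385, 14, [(1073741825, 0, false), (5, 0, true)]),
    (32769, 15, [(2147483649, 0, false), (8193, 0, true)]),
    (131073, 17, [(2147483649, 0, true), (32769, 1, false)]), (262145, 18, [(65, 0, true), (1025, 1, true)]),
    (524289, 19, [(513, 0, true), (33554433, 1, false)]),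
    (1048577, 20, [(4097, 0, true), (268435457, 1, false)]),
    (2097153, 21, [(9, 0, true), (33554433, 1, true)]), (4194305, 22, [(67108865, 0, true), (1025, 1, false)]),
    (8388609, 23, [(2097153, 0, true), (9, 1, true)]), (16777217, 24, [(257, 0, false)]),
    (33554433, 25, [(513, 0, false), (8388609, 0, true)]),
    (67108865, 26, [(1025, 0, false), (16385, 0, true)]), (134217729, 27, [(2049, 0, false), (3, 0, true)]),
    (268435457, 28, [(4097, 0, false), (17, 0, true)]), (536870913, 29, [(8193, 0, false), (2049, 0, true)]),
    (1073741825, 30, [(16385, 0, false), (262145, 0, true)]),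
    (2147483649, 31, [(32769, 0, false), (536870913, 0, true)])],
  [
    (15, 2, [(37781505, 0, true), (2151678465, 1, false), (75505665, 1, true), (603979905, 2, true)]),
    (51, 4, [(268992513, 0, true), (2148012033, 1, false), (8721, 1, true), (537920001, 2, true)]),
    (195, 6, [(33825, 0, true), (2214592545, 1, false), (1074274305, 1, true), (537411585, 2, true)]),
    (771, 8, [(50331651, 0, false), (33153, 0, true)]),
    (3075, 10, [(201326595, 0, false), (1073905665, 0, true), (49155, 1, true), (2147631105, 2, false)]),
    (12291, 12, [(805306371, 0, false), (135299073, 0, true), (34833, 1, true), (2148534273, 2, false)]),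
    (49155, 14, [(3221225475, 0, false), (40965, 0, true), (537165825, 1, true), (2684354565, 2, false)]),
    (786435, 18, [(33345, 0, true), (2181038145, 1, false), (9345, 1, true), (545260545, 2, true)]),
    (3145731, 20, [(36873, 0, true), (2415919113, 1, false), (34611201, 1, true), (570425361, 2, true)]),
    (12582915, 22, [(69238785, 0, true), (2149581825, 1, false), (24585, 1, true), (1610612745, 2, true)]),
    (50331651, 24, [(771, 0, false), (25198593, 0, true)]),
    (201326595, 26, [(3075, 0, false), (49155, 0, true), (1073905665, 1, true), (3221225475, 2, false)]),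
    (805306371, 28, [(12291, 0, false), (34833, 0, true), (135299073, 1, true), (2281701393, 2, false)]),
    (3221225475, 30, [(49155, 0, false), (537165825, 0, true), (40965, 1, true), (2147753985, 2, false)]),
    (85, 4, [(272630785, 0, true), (71307265, 1, false), (1140850705, 1, true), (68173825, 2, true)]),
    (165, 5, [(4718625, 0, true), (67633665, 1, true), (34079745, 2, false), (17025, 2, true)]),
    (1285, 8, [(83886085, 0, false), (1077936385, 0, true)]),
    (2565, 9, [(167772165, 0, false), (4325505, 0, true), (12582915, 1, true), (2214592545, 2, true)]),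
    (20485, 12, [(1342177285, 0, false), (5242885, 0, true), (4456465, 1, true), (71307265, 2, true)]),
    (40965, 13, [(2684354565, 0, false), (138420225, 0, true), (541067265, 1, true), (201326595, 2, true)]),
    (655365, 17, [(2151678465, 0, true), (37781505, 1, false), (603979905, 1, true), (75505665, 2, true)]),
    (5242885, 20, [(71307265, 0, true), (272630785, 1, false), (68173825, 1, true), (1140850705, 2, true)]),
    (10485765, 21, [(6291465, 0, true), (100663305, 1, true), (1545, 2, false), (41959425, 2, true)]),
    (83886085, 24, [(1285, 0, false), (20987905, 0, true)]),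
    (167772165, 25, [(2565, 0, false), (12582915, 0, true), (4325505, 1, true), (69238785, 2, true)]),
    (1342177285, 28, [(20485, 0, false), (4456465, 0, true), (5242885, 1, true), (335544385, 2, true)]),
    (2684354565, 29, [(40965, 0, false), (541067265, 0, true), (138420225, 1, true), (67241985, 2, true)]),
    (153, 4, [(301989921, 0, true), (4641, 1, false), (8912913, 1, true), (1572993, 2, true)]),
    (105, 5, [(34079745, 0, true), (67633665, 1, false), (1082130945, 1, true), (17025, 2, true)]),
    (2313, 8, [(150994953, 0, false), (33685761, 0, true)]),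
    (1545, 9, [(100663305, 0, false), (1107296385, 0, true), (41959425, 1, true), (17025, 2, false)]),
    (36873, 12, [(2415919113, 0, false), (34611201, 0, true), (570425361, 1, true), (537920001, 2, false)]),
    (24585, 13, [(1610612745, 0, false), (167772165, 0, true), (33818625, 1, true), (2565, 2, false)]),
    (393225, 17, [(2181038145, 0, true), (33345, 1, false), (545260545, 1, true), (9345, 2, true)]),
    (9437193, 20, [(35655681, 0, true), (270533121, 1, false), (153, 2, true), (301989921, 3, true)]),
    (6291465, 21, [(100663305, 0, true), (1545, 1, false), (41959425, 1, true), (1107296385, 2, true)]),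
    (150994953, 24, [(2313, 0, false), (50331651, 0, true)]),
    (100663305, 25, [(1545, 0, false), (41959425, 0, true), (1107296385, 1, true), (1082130945, 2, false)]),
    (2415919113, 28, [(36873, 0, false), (570425361, 0, true), (34611201, 1, true), (8721, 2, false)]),
    (1610612745, 29, [(24585, 0, false), (33818625, 0, true), (167772165, 1, true), (134480385, 2, false)]),
    (4369, 8, [(285212689, 0, false), (269484289, 0, true)]),
    (8721, 9, [(570425361, 0, false), (402653313, 0, true), (276826113, 1, true), (6273, 2, false)]),
    (17425, 10, [(1140850705, 0, false), (1342177285, 0, true), (268713985, 1, true), (20485, 2, false)]),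
    (34833, 11, [(2281701393, 0, false), (268574721, 0, true), (805306371, 1, true), (537006081, 2, false)]),
    (2228241, 17, [(2415919113, 0, true), (36873, 1, false), (570425361, 1, true), (34611201, 2, true)]),
    (4456465, 18, [(335544385, 0, true), (5185, 1, false), (17425, 1, true), (1074791425, 2, true)]),
    (8912913, 19, [(270533121, 0, true), (35655681, 1, false), (153, 1, true), (9437193, 2, true)]),
    (285212689, 24, [(4369, 0, false), (269484289, 1, true)]),
    (570425361, 25, [(8721, 0, false), (276826113, 0, true), (402653313, 1, true), (142610433, 2, false)]),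
    (1140850705, 26, [(17425, 0, false), (268713985, 0, true), (1342177285, 1, true), (1074008065, 2, false)]),
    (2281701393, 27, [(34833, 0, false), (805306371, 0, true), (268574721, 1, true), (12291, 2, false)]),
    (8481, 8, [(553648161, 0, false), (134742273, 0, true)]),
    (4641, 9, [(301989921, 0, false), (1572993, 0, true), (8912913, 1, true), (270533121, 3, true)]),
    (33825, 10, [(2214592545, 0, false), (1074274305, 0, true), (537411585, 1, true), (134480385, 2, true)]),
    (18465, 11, [(1207959585, 0, false), (655365, 0, true), (786435, 1, true), (2151678465, 2, true)]),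
    (1179681, 17, [(2148012033, 0, true), (268992513, 1, false), (537920001, 1, true), (8721, 2, true)]),
    (8650785, 18, [(2621505, 0, true), (1545, 1, true), (100663305, 2, false), (1107296385, 2, true)]),
    (4718625, 19, [(67633665, 0, true), (34079745, 1, false), (17025, 1, true), (1082130945, 2, true)]),
    (553648161, 24, [(8481, 0, false), (17303553, 0, true)]),
    (301989921, 25, [(4641, 0, false), (8912913, 0, true), (1572993, 1, true), (270533121, 2, true)]),
    (2214592545, 26, [(33825, 0, false), (537411585, 0, true), (1074274305, 1, true), (2565, 2, true)]),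
    (1207959585, 27, [(18465, 0, false), (786435, 0, true), (655365, 1, true), (33345, 2, true)]),
    (16705, 8, [(1090519105, 0, false), (1285, 0, true)]),
    (33345, 9, [(2181038145, 0, false), (9345, 0, true), (545260545, 1, true), (603979905, 2, false)]),
    (5185, 10, [(335544385, 0, false), (1074791425, 0, true), (17425, 1, true), (68173825, 2, false)]),
    (10305, 11, [(671088705, 0, false), (134349825, 0, true), (3075, 1, true), (67241985, 2, false)]),
    (8519745, 17, [(2149581825, 0, true), (69238785, 1, false), (1610612745, 1, true), (24585, 2, true)]),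
    (1310785, 18, [(5185, 0, true), (335544385, 1, false), (1074791425, 1, true), (17425, 2, true)]),
    (2621505, 19, [(1545, 0, true), (100663305, 1, false), (1107296385, 1, true), (41959425, 2, true)]),
    (1090519105, 24, [(16705, 0, false), (17040385, 0, true)]),
    (2181038145, 25, [(33345, 0, false), (545260545, 0, true), (9345, 1, true), (75505665, 2, false)]),
    (335544385, 26, [(5185, 0, false), (17425, 0, true), (1074791425, 1, true), (1140850705, 2, false)]),
    (671088705, 27, [(10305, 0, false), (3075, 0, true), (134349825, 1, true), (201326595, 2, false)]),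
    (33153, 8, [(2164260993, 0, false), (8481, 0, true)]),
    (17025, 9, [(1107296385, 0, false), (165, 0, true), (8650785, 1, true), (4718625, 2, true)]),
    (9345, 10, [(603979905, 0, false), (1207959585, 0, true), (18465, 1, true), (786435, 2, true)]),
    (6273, 11, [(402653313, 0, false), (1179681, 0, true), (51, 1, true), (2148012033, 2, true)]),
    (4325505, 17, [(2214592545, 0, true), (33825, 1, false), (537411585, 1, true), (1074274305, 2, true)]),
    (2359425, 18, [(105, 0, true), (34079745, 1, true), (67633665, 2, false), (1082130945, 2, true)]),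
    (1572993, 19, [(4641, 0, true), (301989921, 1, false), (8912913, 2, true), (270533121, 3, true)]),
    (2164260993, 24, [(33153, 0, false), (553648161, 0, true)]),
    (1107296385, 25, [(17025, 0, false), (8650785, 0, true), (165, 1, true), (2621505, 2, true)]),
    (603979905, 26, [(9345, 0, false), (18465, 0, true), (1207959585, 1, true), (655365, 2, true)]),
    (402653313, 27, [(6273, 0, false), (51, 0, true), (1179681, 1, true), (268992513, 2, true)]),
    (33685761, 17, [(16908801, 0, false), (2155872513, 0, true)]),
    (67371265, 18, [(17040385, 0, false), (16705, 0, true)]),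
    (134742273, 19, [(17303553, 0, false), (771, 0, true)]),
    (269484289, 20, [(17829889, 0, false), (4369, 0, true)]),
    (538968321, 21, [(18882561, 0, false), (2313, 0, true)]),
    (1077936385, 22, [(20987905, 0, false), (67371265, 0, true)]),
    (2155872513, 23, [(25198593, 0, false), (538968321, 0, true)]),
    (16908801, 17, [(33685761, 0, false), (2164260993, 0, true)]),
    (134480385, 18, [(33818625, 0, false), (195, 0, true), (8519745, 1, true), (33825, 2, true)]),
    (67633665, 19, [(34079745, 0, false), (17025, 0, true), (1082130945, 1, true), (1107296385, 2, false)]),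
    (537920001, 20, [(34611201, 0, false), (6273, 0, true), (142610433, 1, true), (402653313, 2, false)]),
    (270533121, 21, [(35655681, 0, false), (153, 0, true), (9437193, 1, true), (301989921, 2, true)]),
    (2151678465, 22, [(37781505, 0, false), (603979905, 0, true), (75505665, 1, true), (9345, 2, false)]),
    (1082130945, 23, [(41959425, 0, false), (2359425, 0, true), (10485765, 1, true), (105, 2, true)]),
    (134349825, 17, [(67241985, 0, false), (3221225475, 0, true), (2147631105, 1, true), (49155, 2, false)]),
    (17040385, 18, [(67371265, 0, false), (1090519105, 0, true)]),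
    (34079745, 19, [(67633665, 0, false), (1082130945, 0, true), (17025, 1, true), (41959425, 2, false)]),
    (1074791425, 20, [(68173825, 0, false), (1074008065, 0, true), (20485, 1, true), (268713985, 2, false)]),
    (2149581825, 21, [(69238785, 0, false), (1610612745, 0, true), (24585, 1, true), (33818625, 2, true)]),
    (272630785, 22, [(71307265, 0, false), (1140850705, 0, true), (68173825, 1, true), (17425, 2, false)]),
    (545260545, 23, [(75505665, 0, false), (1075841025, 0, true), (136331265, 1, true), (393225, 2, true)]),
    (67241985, 17, [(134349825, 0, false), (2147631105, 0, true), (3221225475, 1, true), (1073905665, 2, false)]),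
    (33818625, 18, [(134480385, 0, false), (8519745, 0, true), (195, 1, true), (2149581825, 2, true)]),
    (17303553, 19, [(134742273, 0, false), (16908801, 0, true)]),
    (2148534273, 20, [(135299073, 0, false), (537006081, 0, true), (12291, 1, true), (268574721, 2, false)]),
    (1075841025, 21, [(136331265, 0, false), (393225, 0, true), (15, 1, true), (2181038145, 2, true)]),
    (541067265, 22, [(138420225, 0, false), (67241985, 0, true), (201326595, 1, true), (134349825, 2, false)]),
    (276826113, 23, [(142610433, 0, false), (2228241, 0, true), (3145731, 1, true), (2415919113, 2, true)]),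
    (537006081, 17, [(268574721, 0, false), (2148534273, 0, true), (2281701393, 1, true), (135299073, 2, false)]),
    (1074008065, 18, [(268713985, 0, false), (1310785, 0, true), (85, 1, true), (5185, 2, true)]),
    (2148012033, 19, [(268992513, 0, false), (537920001, 0, true), (8721, 1, true), (34611201, 2, false)]),
    (17829889, 20, [(269484289, 0, false), (4369, 1, true)]),
    (35655681, 21, [(270533121, 0, false), (9437193, 0, true), (153, 1, true), (301989921, 3, true)]),
    (71307265, 22, [(272630785, 0, false), (68173825, 0, true), (1140850705, 1, true), (1074791425, 2, false)]),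
    (142610433, 23, [(276826113, 0, false), (3145731, 0, true), (2228241, 1, true), (36873, 2, true)]),
    (268574721, 17, [(537006081, 0, false), (2281701393, 0, true), (2148534273, 1, true), (34833, 2, false)]),
    (2147753985, 18, [(537165825, 0, false), (671088705, 0, true), (10305, 1, true), (3075, 2, true)]),
    (1074274305, 19, [(537411585, 0, false), (134480385, 0, true), (2565, 1, true), (33818625, 2, false)]),
    (34611201, 20, [(537920001, 0, false), (142610433, 0, true), (6273, 1, true), (276826113, 2, false)]),
    (18882561, 21, [(538968321, 0, false), (150994953, 0, true)]),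
    (138420225, 22, [(541067265, 0, false), (201326595, 0, true), (67241985, 1, true), (3075, 2, false)]),
    (75505665, 23, [(545260545, 0, false), (136331265, 0, true), (1075841025, 1, true), (15, 2, true)]),
    (2147631105, 17, [(1073905665, 0, false), (2684354565, 0, true), (2147753985, 1, true), (40965, 2, false)]),
    (268713985, 18, [(1074008065, 0, false), (85, 0, true), (1310785, 1, true), (272630785, 2, true)]),
    (537411585, 19, [(1074274305, 0, false), (2565, 0, true), (134480385, 1, true), (167772165, 2, false)]),
    (68173825, 20, [(1074791425, 0, false), (20485, 0, true), (1074008065, 1, true), (1342177285, 2, false)]),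
    (136331265, 21, [(1075841025, 0, false), (15, 0, true), (393225, 1, true), (37781505, 2, true)]),
    (20987905, 22, [(1077936385, 0, false), (83886085, 0, true)]),
    (41959425, 23, [(1082130945, 0, false), (10485765, 0, true), (2359425, 1, true), (6291465, 2, true)]),
    (1073905665, 17, [(2147631105, 0, false), (2147753985, 0, true), (2684354565, 1, true), (537165825, 2, false)]),
    (537165825, 18, [(2147753985, 0, false), (10305, 0, true), (671088705, 1, true), (134349825, 2, true)]),
    (268992513, 19, [(2148012033, 0, false), (8721, 0, true), (537920001, 1, true), (570425361, 2, false)]),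
    (135299073, 20, [(2148534273, 0, false), (12291, 0, true), (537006081, 1, true), (805306371, 2, false)]),
    (69238785, 21, [(2149581825, 0, false), (24585, 0, true), (1610612745, 1, true), (167772165, 2, true)]),
    (37781505, 22, [(2151678465, 0, false), (75505665, 0, true), (603979905, 1, true), (545260545, 2, false)]),
    (25198593, 23, [(2155872513, 0, false), (18882561, 0, true)])],
  [
    (255, 4, [(306742305, 0, true), (2219315745, 1, false), (1149772305, 1, true), (605569665, 2, true), (579355665, 3, false), (405029505, 3, true), (1108878465, 4, false), (23205, 4, true)]),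
    (3855, 8, [(251658255, 0, false), (1111654785, 0, true), (62963715, 1, true), (2168603265, 2, false)]),
    (61455, 12, [(4026531855, 0, false), (173056005, 0, true), (574916625, 1, true), (2689600005, 2, false), (213921795, 2, true), (2286166545, 3, false), (344074305, 3, true), (608311425, 4, true)]),
    (15728655, 20, [(106991625, 0, true), (2422212105, 1, false), (110125065, 1, true), (1711276185, 2, true), (1620051465, 3, false), (178278405, 3, true), (26265, 4, false), (310659105, 4, true)]),
    (251658255, 24, [(3855, 0, false), (62963715, 0, true), (1111654785, 1, true), (3233809155, 2, false)]),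
    (4026531855, 28, [(61455, 0, false), (574916625, 0, true), (173056005, 1, true), (2286166545, 2, false), (344074305, 2, true), (2689600005, 3, false), (213921795, 3, true), (1006633155, 4, true)]),
    (13107, 8, [(855638067, 0, false), (404259201, 0, true), (294160401, 1, true), (2165840001, 2, false)]),
    (52275, 10, [(3422552115, 0, false), (1342873605, 0, true), (806141955, 1, true), (2685030405, 2, false), (2286166545, 2, true), (3222024195, 3, false), (43605, 3, true), (2689600005, 4, true)]),
    (13369395, 18, [(338199105, 0, true), (2183664705, 1, false), (26265, 1, true), (1620051465, 2, true), (1711276185, 3, false), (1509949605, 3, true), (110125065, 4, false), (1109661825, 4, true)]),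
    (855638067, 24, [(13107, 0, false), (294160401, 0, true), (404259201, 1, true), (2290618641, 2, false)]),
    (3422552115, 26, [(52275, 0, false), (806141955, 0, true), (1342873605, 1, true), (3222024195, 2, false), (43605, 2, true), (2685030405, 3, false), (2286166545, 3, true), (672432705, 4, true)]),
    (50115, 8, [(3271557315, 0, false), (42405, 0, true), (562332705, 1, true), (2768240805, 2, false)]),
    (15555, 10, [(1006633155, 0, false), (1209173025, 0, true), (52275, 1, true), (2215790625, 2, false), (3222024195, 2, true), (3422552115, 3, false), (1342873605, 3, true), (2685030405, 4, true)]),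
    (3932355, 18, [(38505, 0, true), (2516582505, 1, false), (1108878465, 1, true), (579355665, 2, true), (605569665, 3, false), (1216614945, 3, true), (1149772305, 4, false), (1352665605, 4, true)]),
    (3271557315, 24, [(50115, 0, false), (562332705, 0, true), (42405, 1, true), (2223251745, 2, false)]),
    (1006633155, 26, [(15555, 0, false), (52275, 0, true), (1209173025, 1, true), (3422552115, 2, false), (1342873605, 2, true), (2215790625, 3, false), (3222024195, 3, true), (806141955, 4, true)]),
    (202113795, 18, [(51121155, 0, false), (50115, 0, true), (1099072065, 1, true), (3271557315, 2, false)]),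
    (808452867, 20, [(53489667, 0, false), (39321, 0, true), (160469001, 1, true), (2566914201, 2, false)]),
    (3233809155, 22, [(62963715, 0, false), (606372225, 0, true), (94412805, 1, true), (2166629505, 2, false)]),
    (51121155, 18, [(202113795, 0, false), (1099072065, 0, true), (50115, 1, true), (2189574465, 2, false)]),
    (3224374275, 20, [(204521475, 0, false), (1611042825, 0, true), (61455, 1, true), (2416336905, 2, false), (2182359105, 2, true), (4026531855, 3, false), (173056005, 3, true), (2852126805, 4, true)]),
    (817892355, 22, [(213921795, 0, false), (1143113745, 0, true), (204521475, 1, true), (2283947025, 2, false), (2416336905, 2, true), (3224374275, 3, false), (61455, 3, true), (4026531855, 4, true)]),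
    (3222024195, 18, [(806141955, 0, false), (672432705, 0, true), (43605, 1, true), (2182359105, 2, false), (15555, 2, true), (2852126805, 3, false), (406987905, 3, true), (679613505, 4, true)]),
    (53489667, 20, [(808452867, 0, false), (160469001, 0, true), (39321, 1, true), (2425358601, 2, false)]),
    (213921795, 22, [(817892355, 0, false), (204521475, 0, true), (1143113745, 1, true), (3224374275, 2, false), (61455, 2, true), (2283947025, 3, false), (2416336905, 3, true), (1611042825, 4, true)]),
    (806141955, 18, [(3222024195, 0, false), (43605, 0, true), (672432705, 1, true), (2852126805, 2, false), (406987905, 2, true), (2182359105, 3, false), (15555, 3, true), (817892355, 4, true)]),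
    (204521475, 20, [(3224374275, 0, false), (61455, 0, true), (1611042825, 1, true), (4026531855, 2, false), (173056005, 2, true), (2416336905, 3, false), (2182359105, 3, true), (574916625, 4, true)]),
    (62963715, 22, [(3233809155, 0, false), (94412805, 0, true), (606372225, 1, true), (2694841605, 2, false)]),
    (21845, 8, [(1426063445, 0, false), (1347421445, 0, true), (289686545, 1, true), (89149445, 2, false)]),
    (43605, 9, [(2852126805, 0, false), (406987905, 0, true), (817892355, 1, true), (608311425, 2, false), (3422552115, 2, true), (213921795, 3, false), (1143113745, 3, true), (2215790625, 4, true)]),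
    (11141205, 17, [(2422212105, 0, true), (106991625, 1, false), (1711276185, 1, true), (110125065, 2, true), (26265, 3, false), (310659105, 3, true), (1620051465, 4, false), (178278405, 4, true)]),
    (1426063445, 24, [(21845, 0, false), (289686545, 0, true), (1347421445, 1, true), (1145311505, 2, false)]),
    (2852126805, 25, [(43605, 0, false), (817892355, 0, true), (406987905, 1, true), (213921795, 2, false), (1143113745, 2, true), (608311425, 3, false), (3422552115, 3, true), (204521475, 4, true)]),
    (42405, 8, [(2768240805, 0, false), (1212686625, 0, true), (558385185, 1, true), (202113795, 2, true)]),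
    (23205, 9, [(1509949605, 0, false), (5898405, 0, true), (13369395, 1, true), (2219315745, 2, true), (338199105, 3, true), (306742305, 4, false), (605569665, 4, true), (2183664705, 5, false)]),
    (5898405, 17, [(2219315745, 0, true), (306742305, 1, false), (605569665, 1, true), (1149772305, 2, true), (1108878465, 3, false), (23205, 3, true), (579355665, 4, false), (405029505, 4, true)]),
    (2768240805, 24, [(42405, 0, false), (558385185, 0, true), (1212686625, 1, true), (84544005, 2, true)]),
    (1509949605, 25, [(23205, 0, false), (13369395, 0, true), (5898405, 1, true), (338199105, 2, true), (2219315745, 3, true), (2183664705, 4, false), (26265, 4, true), (306742305, 5, false)]),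
    (168428805, 17, [(84544005, 0, false), (3233809155, 0, true), (2168603265, 1, true), (62963715, 2, false)]),
    (1347421445, 20, [(89149445, 0, false), (1145311505, 0, true), (289686545, 2, false), (336871745, 2, true)]),
    (2694841605, 21, [(94412805, 0, false), (1616906505, 0, true), (157310985, 1, true), (101058825, 2, true)]),
    (84544005, 17, [(168428805, 0, false), (2168603265, 0, true), (3233809155, 1, true), (1111654785, 2, false)]),
    (2689600005, 20, [(173056005, 0, false), (608311425, 0, true), (213921795, 1, true), (406987905, 2, false), (2215790625, 2, true), (817892355, 3, false), (204521475, 3, true), (3422552115, 4, true)]),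
    (1352665605, 21, [(178278405, 0, false), (6684825, 0, true), (15728655, 1, true), (2516582505, 2, true), (106991625, 3, true), (38505, 4, false), (579355665, 4, true), (2422212105, 5, false)]),
    (2685030405, 17, [(1342873605, 0, false), (2689600005, 0, true), (2286166545, 1, true), (173056005, 2, false), (608311425, 2, true), (574916625, 3, false), (1006633155, 3, true), (213921795, 4, true)]),
    (89149445, 20, [(1347421445, 0, false), (1145311505, 1, true), (289686545, 2, false), (336871745, 2, true)]),
    (178278405, 21, [(1352665605, 0, false), (15728655, 0, true), (6684825, 1, true), (106991625, 2, true), (2516582505, 3, true), (2422212105, 4, false), (110125065, 4, true), (38505, 5, false)]),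
    (1342873605, 17, [(2685030405, 0, false), (2286166545, 0, true), (2689600005, 1, true), (574916625, 2, false), (1006633155, 2, true), (173056005, 3, false), (608311425, 3, true), (344074305, 4, true)]),
    (173056005, 20, [(2689600005, 0, false), (213921795, 0, true), (608311425, 1, true), (817892355, 2, false), (204521475, 2, true), (406987905, 3, false), (2215790625, 3, true), (1143113745, 4, true)]),
    (94412805, 21, [(2694841605, 0, false), (157310985, 0, true), (1616906505, 1, true), (251658255, 2, true)]),
    (39321, 8, [(2566914201, 0, false), (303178017, 0, true), (855638067, 1, true), (554832417, 2, false)]),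
    (26265, 9, [(1711276185, 0, false), (1509949605, 0, true), (310659105, 1, true), (23205, 2, false), (13369395, 2, true), (1216614945, 3, false), (11141205, 3, true), (5898405, 4, true)]),
    (6684825, 17, [(2516582505, 0, true), (38505, 1, false), (579355665, 1, true), (1108878465, 2, true), (1149772305, 3, false), (1352665605, 3, true), (605569665, 4, false), (1216614945, 4, true)]),
    (2566914201, 24, [(39321, 0, false), (855638067, 0, true), (303178017, 1, true), (13107, 2, false)]),
    (1711276185, 25, [(26265, 0, false), (310659105, 0, true), (1509949605, 1, true), (1216614945, 2, false), (11141205, 2, true), (23205, 3, false), (13369395, 3, true), (3932355, 4, true)]),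
    (26985, 8, [(1761607785, 0, false), (168428805, 0, true), (51121155, 1, true), (84544005, 2, false)]),
    (38505, 9, [(2516582505, 0, false), (1108878465, 0, true), (579355665, 1, true), (605569665, 2, false), (1216614945, 2, true), (1149772305, 3, false), (1352665605, 3, true), (23205, 4, true)]),
    (9830505, 17, [(2183664705, 0, true), (338199105, 1, false), (1620051465, 1, true), (26265, 2, true), (110125065, 3, false), (1109661825, 3, true), (1711276185, 4, false), (1509949605, 4, true)]),
    (1761607785, 24, [(26985, 0, false), (51121155, 0, true), (168428805, 1, true), (202113795, 2, false)]),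
    (2516582505, 25, [(38505, 0, false), (579355665, 0, true), (1108878465, 1, true), (1149772305, 2, false), (1352665605, 2, true), (605569665, 3, false), (1216614945, 3, true), (405029505, 4, true)]),
    (101058825, 17, [(151389705, 0, false), (2189574465, 0, true), (3271557315, 1, true), (1099072065, 2, false)]),
    (2425358601, 20, [(160469001, 0, false), (572657937, 0, true), (53489667, 1, true), (287449617, 2, false)]),
    (1616906505, 21, [(157310985, 0, false), (101058825, 0, true), (251658255, 1, true), (151389705, 2, false)]),
    (151389705, 17, [(101058825, 0, false), (3271557315, 0, true), (2189574465, 1, true), (50115, 2, false)]),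
    (1620051465, 20, [(110125065, 0, false), (1109661825, 0, true), (178278405, 1, true), (405029505, 2, false), (9830505, 2, true), (1352665605, 3, false), (15728655, 3, true), (255, 4, true)]),
    (2422212105, 21, [(106991625, 0, false), (1711276185, 0, true), (110125065, 1, true), (26265, 2, false), (310659105, 2, true), (1620051465, 3, false), (178278405, 3, true), (1509949605, 4, true)]),
    (1611042825, 17, [(2416336905, 0, false), (2182359105, 0, true), (2852126805, 1, true), (672432705, 2, false), (679613505, 2, true), (43605, 3, false), (817892355, 3, true), (15555, 4, true)]),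
    (160469001, 20, [(2425358601, 0, false), (53489667, 0, true), (572657937, 1, true), (808452867, 2, false)]),
    (106991625, 21, [(2422212105, 0, false), (110125065, 0, true), (1711276185, 1, true), (1620051465, 2, false), (178278405, 2, true), (26265, 3, false), (310659105, 3, true), (1109661825, 4, true)]),
    (2416336905, 17, [(1611042825, 0, false), (2852126805, 0, true), (2182359105, 1, true), (43605, 2, false), (817892355, 2, true), (672432705, 3, false), (679613505, 3, true), (406987905, 4, true)]),
    (110125065, 20, [(1620051465, 0, false), (178278405, 0, true), (1109661825, 1, true), (1352665605, 2, false), (15728655, 2, true), (405029505, 3, false), (9830505, 3, true), (6684825, 4, true)]),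
    (157310985, 21, [(1616906505, 0, false), (251658255, 0, true), (101058825, 1, true), (3855, 2, false)]),
    (572657937, 17, [(287449617, 0, false), (2425358601, 0, true), (2566914201, 1, true), (160469001, 2, false)]),
    (1145311505, 18, [(289686545, 0, false), (336871745, 0, true), (1426063445, 1, true), (1091834945, 2, false)]),
    (2290618641, 19, [(294160401, 0, false), (808452867, 0, true), (287449617, 1, true), (53489667, 2, false)]),
    (287449617, 17, [(572657937, 0, false), (2566914201, 0, true), (2425358601, 1, true), (39321, 2, false)]),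
    (2286166545, 18, [(574916625, 0, false), (1006633155, 0, true), (344074305, 1, true), (15555, 2, false), (52275, 2, true), (679613505, 3, false), (2283947025, 3, true), (1209173025, 4, true)]),
    (1149772305, 19, [(579355665, 0, false), (405029505, 0, true), (1352665605, 1, true), (1109661825, 2, false), (255, 2, true), (178278405, 3, false), (6684825, 3, true), (9830505, 4, true)]),
    (2283947025, 17, [(1143113745, 0, false), (4026531855, 0, true), (2416336905, 1, true), (61455, 2, false), (574916625, 2, true), (1611042825, 3, false), (2852126805, 3, true), (173056005, 4, true)]),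
    (289686545, 18, [(1145311505, 0, false), (1426063445, 0, true), (336871745, 1, true), (21845, 2, false)]),
    (579355665, 19, [(1149772305, 0, false), (1352665605, 0, true), (405029505, 1, true), (178278405, 2, false), (6684825, 2, true), (1109661825, 3, false), (255, 3, true), (15728655, 4, true)]),
    (1143113745, 17, [(2283947025, 0, false), (2416336905, 0, true), (4026531855, 1, true), (1611042825, 2, false), (2852126805, 2, true), (61455, 3, false), (574916625, 3, true), (2182359105, 4, true)]),
    (574916625, 18, [(2286166545, 0, false), (344074305, 0, true), (1006633155, 1, true), (679613505, 2, false), (2283947025, 2, true), (15555, 3, false), (52275, 3, true), (3224374275, 4, true)]),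
    (294160401, 19, [(2290618641, 0, false), (287449617, 0, true), (808452867, 1, true), (572657937, 2, false)]),
    (303178017, 17, [(554832417, 0, false), (2290618641, 0, true), (2165840001, 1, true), (294160401, 2, false)]),
    (2223251745, 18, [(562332705, 0, false), (673726785, 0, true), (1093150785, 1, true), (3855, 2, true)]),
    (1212686625, 19, [(558385185, 0, false), (202113795, 0, true), (84544005, 1, true), (51121155, 2, false)]),
    (554832417, 17, [(303178017, 0, false), (2165840001, 0, true), (2290618641, 1, true), (404259201, 2, false)]),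
    (1216614945, 18, [(310659105, 0, false), (3932355, 0, true), (11141205, 1, true), (38505, 2, true), (2422212105, 3, true), (2516582505, 4, false), (1108878465, 4, true), (106991625, 5, false)]),
    (2219315745, 19, [(306742305, 0, false), (605569665, 0, true), (1149772305, 1, true), (1108878465, 2, false), (23205, 2, true), (579355665, 3, false), (405029505, 3, true), (1216614945, 4, true)]),
    (1209173025, 17, [(2215790625, 0, false), (3222024195, 0, true), (2685030405, 1, true), (806141955, 2, false), (672432705, 2, true), (1342873605, 3, false), (2689600005, 3, true), (43605, 4, true)]),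
    (562332705, 18, [(2223251745, 0, false), (1093150785, 0, true), (673726785, 1, true), (151389705, 2, true)]),
    (306742305, 19, [(2219315745, 0, false), (1149772305, 0, true), (605569665, 1, true), (579355665, 2, false), (405029505, 2, true), (1108878465, 3, false), (23205, 3, true), (1352665605, 4, true)]),
    (2215790625, 17, [(1209173025, 0, false), (2685030405, 0, true), (3222024195, 1, true), (1342873605, 2, false), (2689600005, 2, true), (806141955, 3, false), (672432705, 3, true), (2286166545, 4, true)]),
    (310659105, 18, [(1216614945, 0, false), (11141205, 0, true), (3932355, 1, true), (2422212105, 2, true), (38505, 3, true), (106991625, 4, false), (1711276185, 4, true), (2516582505, 5, false)]),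
    (558385185, 19, [(1212686625, 0, false), (84544005, 0, true), (202113795, 1, true), (168428805, 2, false)]),
    (2189574465, 17, [(1099072065, 0, false), (2694841605, 0, true), (2166629505, 1, true), (94412805, 2, false)]),
    (336871745, 18, [(1091834945, 0, false), (21845, 0, true), (1426063445, 2, false), (1347421445, 2, true)]),
    (673726785, 19, [(1093150785, 0, false), (3855, 0, true), (151389705, 1, true), (251658255, 2, false)]),
    (1099072065, 17, [(2189574465, 0, false), (2166629505, 0, true), (2694841605, 1, true), (606372225, 2, false)]),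
    (672432705, 18, [(2182359105, 0, false), (15555, 0, true), (679613505, 1, true), (1006633155, 2, false), (1209173025, 2, true), (344074305, 3, false), (3224374275, 3, true), (52275, 4, true)]),
    (338199105, 19, [(2183664705, 0, false), (26265, 0, true), (1620051465, 1, true), (1711276185, 2, false), (1509949605, 2, true), (110125065, 3, false), (1109661825, 3, true), (310659105, 4, true)]),
    (679613505, 17, [(344074305, 0, false), (3224374275, 0, true), (2283947025, 1, true), (204521475, 2, false), (1611042825, 2, true), (1143113745, 3, false), (4026531855, 3, true), (61455, 4, true)]),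
    (1091834945, 18, [(336871745, 0, false), (21845, 1, true), (1426063445, 2, false), (1347421445, 2, true)]),
    (2183664705, 19, [(338199105, 0, false), (1620051465, 0, true), (26265, 1, true), (110125065, 2, false), (1109661825, 2, true), (1711276185, 3, false), (1509949605, 3, true), (178278405, 4, true)]),
    (344074305, 17, [(679613505, 0, false), (2283947025, 0, true), (3224374275, 1, true), (1143113745, 2, false), (4026531855, 2, true), (204521475, 3, false), (1611042825, 3, true), (2416336905, 4, true)]),
    (2182359105, 18, [(672432705, 0, false), (679613505, 0, true), (15555, 1, true), (344074305, 2, false), (3224374275, 2, true), (1006633155, 3, false), (1209173025, 3, true), (2283947025, 4, true)]),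
    (1093150785, 19, [(673726785, 0, false), (151389705, 0, true), (3855, 1, true), (101058825, 2, false)]),
    (1111654785, 17, [(2168603265, 0, false), (2223251745, 0, true), (2768240805, 1, true), (562332705, 2, false)]),
    (606372225, 18, [(2166629505, 0, false), (26985, 0, true), (1761607785, 1, true), (168428805, 2, true)]),
    (404259201, 19, [(2165840001, 0, false), (13107, 0, true), (554832417, 1, true), (855638067, 2, false)]),
    (2168603265, 17, [(1111654785, 0, false), (2768240805, 0, true), (2223251745, 1, true), (42405, 2, false)]),
    (405029505, 18, [(1109661825, 0, false), (255, 0, true), (9830505, 1, true), (306742305, 2, true), (2183664705, 3, true), (2219315745, 4, false), (1149772305, 4, true), (338199105, 5, false)]),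
    (605569665, 19, [(1108878465, 0, false), (23205, 0, true), (1216614945, 1, true), (1509949605, 2, false), (5898405, 2, true), (310659105, 3, false), (3932355, 3, true), (13369395, 4, true)]),
    (406987905, 17, [(608311425, 0, false), (3422552115, 0, true), (2215790625, 1, true), (52275, 2, false), (806141955, 2, true), (1209173025, 3, false), (2685030405, 3, true), (1342873605, 4, true)]),
    (2166629505, 18, [(606372225, 0, false), (1761607785, 0, true), (26985, 1, true), (51121155, 2, true)]),
    (1108878465, 19, [(605569665, 0, false), (1216614945, 0, true), (23205, 1, true), (310659105, 2, false), (3932355, 2, true), (1509949605, 3, false), (5898405, 3, true), (11141205, 4, true)]),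
    (608311425, 17, [(406987905, 0, false), (2215790625, 0, true), (3422552115, 1, true), (1209173025, 2, false), (2685030405, 2, true), (52275, 3, false), (806141955, 3, true), (3222024195, 4, true)]),
    (1109661825, 18, [(405029505, 0, false), (9830505, 0, true), (255, 1, true), (2183664705, 2, true), (306742305, 3, true), (338199105, 4, false), (1620051465, 4, true), (2219315745, 5, false)]),
    (2165840001, 19, [(404259201, 0, false), (554832417, 0, true), (13107, 1, true), (303178017, 2, false)])],
  [
    (65535, 8, [(4278190335, 0, false), (1515890085, 0, true), (869059635, 1, true), (2774162085, 2, false), (3435934515, 2, true), (1437248085, 3, true), (1010615235, 5, true), (2863289685, 6, false)]),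
    (4278190335, 24, [(65535, 0, false), (869059635, 0, true), (1515890085, 1, true), (3435934515, 2, false), (1437248085, 2, true), (2774162085, 3, false), (1010615235, 4, true), (2863289685, 5, false)]),
    (4042264335, 20, [(267448335, 0, false), (1718000025, 0, true), (2573624985, 2, false), (2526439785, 2, true), (4278190335, 3, true), (1771476585, 4, false), (2863289685, 4, true), (65535, 5, false)]),
    (267448335, 20, [(4042264335, 0, false), (1718000025, 1, true), (2573624985, 2, false), (2526439785, 2, true), (4278190335, 3, true), (1771476585, 4, false), (2863289685, 4, true), (65535, 5, false)]),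
    (3435934515, 18, [(869059635, 0, false), (1010615235, 0, true), (1437248085, 1, true), (3275504835, 2, false), (65535, 2, true), (2863289685, 3, false), (2573624985, 3, true), (1771476585, 4, true)]),
    (869059635, 18, [(3435934515, 0, false), (1437248085, 0, true), (1010615235, 1, true), (2863289685, 2, false), (2573624985, 2, true), (3275504835, 3, false), (65535, 3, true), (4042264335, 4, true)]),
    (1010615235, 18, [(3275504835, 0, false), (65535, 0, true), (1771476585, 1, true), (4278190335, 2, false), (1515890085, 2, true), (2526439785, 3, false), (869059635, 4, true), (2774162085, 5, false)]),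
    (3275504835, 18, [(1010615235, 0, false), (1771476585, 0, true), (65535, 1, true), (2526439785, 2, false), (4278190335, 3, false), (1515890085, 3, true), (2863289685, 4, true), (869059635, 5, true)]),
    (2863289685, 17, [(1437248085, 0, false), (4042264335, 0, true), (2573624985, 1, true), (267448335, 2, false), (1718000025, 2, true), (4278190335, 3, true), (2526439785, 5, true), (65535, 6, false)]),
    (1437248085, 17, [(2863289685, 0, false), (2573624985, 0, true), (4042264335, 1, true), (1718000025, 2, false), (4278190335, 2, true), (267448335, 3, false), (2526439785, 4, true), (65535, 5, false)]),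
    (1515890085, 17, [(2774162085, 0, false), (3435934515, 0, true), (869059635, 2, false), (1010615235, 2, true), (1437248085, 3, true), (3275504835, 4, false), (65535, 4, true), (2863289685, 5, false)]),
    (2774162085, 17, [(1515890085, 0, false), (3435934515, 1, true), (869059635, 2, false), (1010615235, 2, true), (1437248085, 3, true), (3275504835, 4, false), (65535, 4, true), (2863289685, 5, false)]),
    (1718000025, 17, [(2573624985, 0, false), (2526439785, 0, true), (4278190335, 1, true), (1771476585, 2, false), (2863289685, 2, true), (65535, 3, false), (869059635, 3, true), (3275504835, 4, true)]),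
    (2573624985, 17, [(1718000025, 0, false), (4278190335, 0, true), (2526439785, 1, true), (65535, 2, false), (869059635, 2, true), (1771476585, 3, false), (2863289685, 3, true), (1515890085, 4, true)]),
    (2526439785, 17, [(1771476585, 0, false), (2863289685, 0, true), (3275504835, 1, true), (1437248085, 2, false), (4042264335, 2, true), (1010615235, 3, false), (2573624985, 4, true), (267448335, 5, false)]),
    (1771476585, 17, [(2526439785, 0, false), (3275504835, 0, true), (2863289685, 1, true), (1010615235, 2, false), (1437248085, 3, false), (4042264335, 3, true), (65535, 4, true), (2573624985, 5, true)])]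
  ].getD k []

/-- The two permutations of the normal subgroup. -/
def p1 : List ℕ :=
  [0, 1, 2, 3, 4, 5, 6, 7, 24, 25, 26, 27, 28, 29, 30, 31, 16, 17, 18, 19, 20, 21, 22, 23, 8, 9, 10, 11,
    12, 13, 14, 15]
@[inherit_doc p1] def p2 : List ℕ :=
  [0, 27, 14, 21, 28, 7, 18, 9, 8, 19, 6, 29, 20, 15, 26, 1, 16, 11, 30, 5, 12, 23, 2, 25, 24, 3, 22, 13,
    4, 31, 10, 17]

/-- Check of a part of an orbit: each entry is a preimage of an earlier one, and new. -/
def chk (S : ℕ) : List ℕ → List (ℕ × ℕ × Bool) → Bool
  | _, [] => true
  | seen, (T, i, b) :: r =>
    (T == pre (cond b p2 p1) (seen.getD i S)) && !seen.contains T && chk S (seen ++ [T]) r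

theorem chk_sound (S : ℕ) (Q : ℕ → Prop) (hS : Q S) (hstep : ∀ U, Q U → Q (pre p1 U) ∧ Q (pre p2 U)) :
    ∀ (L : List (ℕ × ℕ × Bool)) (seen : List ℕ), chk S seen L = true → seen.Nodup → (∀ T ∈ seen, Q T) →
      ∃ R : List ℕ, R.Nodup ∧ R.length = seen.length + L.length ∧ ∀ T ∈ R, Q T := by
  intro L
  induction L with
  | nil => exact fun seen _ h1 h2 => ⟨seen, h1, by simp, h2⟩
  | cons e r ih =>
    obtain ⟨T, i, b⟩ := e
    intro seen h h1 h2
    simp only [chk, Bool.and_eq_true, beq_iff_eq, Bool.not_eq_true', List.contains_eq_mem,
      decide_eq_false_iff_not] at h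
    have hQ : Q (seen.getD i S) := by
      rcases Nat.lt_or_ge i seen.length with hi | hi
      · rw [List.getD_eq_getElem _ _ hi]; exact h2 _ (List.getElem_mem hi)
      · rw [List.getD_eq_default _ _ hi]; exact hS
    obtain ⟨R, r1, r2, r3⟩ := ih (seen ++ [T]) h.2
      (List.nodup_append.2 ⟨h1, List.nodup_singleton T, fun x hx y hy e => by
        rw [List.mem_singleton] at hy; exact h.1.2 (hy ▸ e ▸ hx)⟩)
      (fun x hx => by
        rcases List.mem_append.1 hx with hx | hx
        · exact h2 x hx
        · rw [List.mem_singleton] at hx; subst hx
          rw [h.1.1]; cases b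
          · exact (hstep _ hQ).1
          · exact (hstep _ hQ).2)
    exact ⟨R, r1, by rw [r2]; simp; omega, r3⟩

/-- The orbit of a subspace is large. -/
def good (S : ℕ) (L : List (ℕ × ℕ × Bool)) : Bool :=
  S == 1 ||
    (chk S [S] L && decide (size S < 2 * (L.length + 1)) &&
      (S.testBit 8 || S.testBit 24 || decide (size S < L.length + 1)))

theorem lv_five : lv 5 = [] := rfl

set_option maxHeartbeats 2000000 in
theorem lv_good : ∀ k < 5, (lv k).all (fun Sl => good Sl.1 Sl.2.2) = true := by decide +kernel

/-- The next dimension lists every extension by a least new number. -/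
def stepOk (k : ℕ) : Bool :=
  (lv k).all fun Sl => (List.range 32).all fun e =>
    !(decide (Sl.2.1 < e) && !Sl.1.testBit e && ((trans Sl.1 e % 2 ^ e) ||| Sl.1 == Sl.1) &&
        !(span Sl.1 e).testBit 16) ||
      (lv (k + 1)).any fun Tl => Tl.2.1 == e && Tl.1 == span Sl.1 e

set_option maxHeartbeats 2000000 in
theorem lv_step : ∀ k < 5, stepOk k = true := by decide +kernel

theorem mem_lev (f : ℕ → Bool) (h0 : f 0 = true)
    (hx : ∀ a < 32, ∀ b < 32, f a = true → f b = true → f (a ^^^ b) = true) (hz : f 16 = false) :
    ∃ k < 5, ∃ l c, (mk f, l, c) ∈ lv k := by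
  by_contra hcon
  push Not at hcon
  suffices key : ∀ k ≤ 5, ∃ T l c, (T, l, c) ∈ lv k ∧ (∀ a, T.testBit a = true → (mk f).testBit a = true) ∧
      ∀ a ≤ l, (mk f).testBit a = true → T.testBit a = true by
    obtain ⟨T, l, c, hT, -⟩ := key 5 le_rfl
    rw [lv_five] at hT
    exact absurd hT List.not_mem_nil
  intro k
  induction k with
  | zero =>
    intro _
    refine ⟨1, 0, [], List.mem_cons_self, fun a ha => ?_, fun a ha _ => ?_⟩
    · obtain rfl : a = 0 := by simpa [Nat.testBit_one_eq_true_iff_self_eq_zero] using ha
      rw [testBit_mk, h0]; rfl
    · obtain rfl : a = 0 := by omega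
      rfl
  | succ k ih =>
    intro hk
    obtain ⟨T, l, c, hT, hsub, hlow⟩ := ih (by omega)
    have hex : ∃ e, (mk f).testBit e = true ∧ T.testBit e = false := by
      by_contra hne
      push Not at hne
      refine hcon k (by omega) l c ?_
      rwa [show mk f = T from Nat.eq_of_testBit_eq fun a => ?_]
      cases h : T.testBit a
      · cases h' : (mk f).testBit a
        · rfl
        · exact absurd h (by simpa using hne a h')
      · exact hsub a h
    classical
    set e := Nat.find hex
    obtain ⟨he1', he2⟩ := Nat.find_spec hex
    have hmin : ∀ a < e, (mk f).testBit a = true → T.testBit a = true := fun a ha h => by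
      by_contra h'
      exact Nat.find_min hex ha ⟨h, by simpa using h'⟩
    have hle : l < e := by
      by_contra h
      exact absurd (hlow e (by omega) he1') (by simp [e, he2])
    have he1 := he1'
    rw [testBit_mk, Bool.and_eq_true, decide_eq_true_eq] at he1
    have hcoset : ∀ a, (trans T e).testBit a = true → (mk f).testBit a = true ∧ a < 32 ∧
        T.testBit (a ^^^ e) = true := by
      intro a ha
      rw [trans, testBit_mk, Bool.and_eq_true, decide_eq_true_eq] at ha
      have h1 := hsub _ ha.2
      rw [testBit_mk, Bool.and_eq_true, decide_eq_true_eq] at h1 ⊢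
      refine ⟨⟨ha.1, ?_⟩, ha.1, ha.2⟩
      have := hx _ h1.1 e he1.1 h1.2 he1.2
      rwa [Nat.xor_assoc, Nat.xor_self, Nat.xor_zero] at this
    have hspan : ∀ a, (span T e).testBit a = true → (mk f).testBit a = true := by
      intro a ha
      rw [span, Nat.testBit_or, Bool.or_eq_true] at ha
      exact ha.elim (hsub a) fun h => (hcoset a h).1
    suffices hnext : ∃ c', (span T e, e, c') ∈ lv (k + 1) by
      obtain ⟨c', hc'⟩ := hnext
      refine ⟨span T e, e, c', hc', hspan, fun a ha h => ?_⟩
      rw [span, Nat.testBit_or, Bool.or_eq_true]
      rcases Nat.lt_or_eq_of_le ha with h' | rfl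
      · exact Or.inl (hmin a h' h)
      · right
        rw [trans, testBit_mk, Nat.xor_self]
        have h00 := hlow 0 (Nat.zero_le _) (by rw [testBit_mk, h0]; rfl)
        rw [h00, decide_eq_true (show e < 32 from he1.1)]
        rfl
    have hcond : (decide (l < e) && !T.testBit e && ((trans T e % 2 ^ e) ||| T == T) &&
        !(span T e).testBit 16) = true := by
      simp only [Bool.and_eq_true, decide_eq_true_eq, Bool.not_eq_true', beq_iff_eq]
      refine ⟨⟨⟨hle, he2⟩, ?_⟩, ?_⟩
      · refine Nat.eq_of_testBit_eq fun a => ?_
        rw [Nat.testBit_or, Nat.testBit_mod_two_pow]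
        by_cases h : a < e ∧ (trans T e).testBit a = true
        · rw [hmin a h.1 (hcoset a h.2).1]; simp
        · rcases not_and_or.1 h with h | h <;> simp [h]
      · by_contra h16
        have := hspan 16 (by simpa using h16)
        rw [testBit_mk, hz] at this
        simp at this
    have h := List.all_eq_true.1 (List.all_eq_true.1 (lv_step k (by omega)) _ hT) e (List.mem_range.2 he1.1)
    simp only [hcond, Bool.not_true, Bool.false_or, List.any_eq_true, Bool.and_eq_true, beq_iff_eq] at h
    obtain ⟨⟨T', l', c'⟩, hm, rfl, rfl⟩ := h
    exact ⟨c', hm⟩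

/-! ### The subgroup -/

/-- The word of a number below 32. -/
def wd5 (a : ℕ) : List ℕ := ((List.range 5).filter fun i => a.testBit i).map (7 + ·)

theorem wd5_lt : ∀ a < 32, ∀ x ∈ wd5 a, x < pres.n := by decide +kernel

theorem mul_check : ∀ a < 32, ∀ b < 32,
    pres.collect 40 (wd5 a ++ wd5 b) = pres.collect 40 (wd5 (a ^^^ b)) := by decide +kernel

theorem act_check : ∀ a < 32, ∀ gp ∈ [([1], p1), ([0, 2], p2)],
    gp.2.getD a 0 < 32 ∧ pres.collect 40 (wd5 a ++ gp.1) = pres.collect 40 (gp.1 ++ wd5 (gp.2.getD a 0)) := by
  decide +kernel

theorem chi_wd5 : ∀ a < 32, ((wd5 a).map chi).sum = 0 := by decide +kernel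

theorem act_words : ∀ g ∈ [[1], [0, 2]], (∀ x ∈ g, x < pres.n) ∧ (g.map chi).sum = 0 := by decide +kernel

/-- Products of squares giving the generators of the normal subgroup. -/
def sqWords : List (List (List ℕ)) := [[[2, 4], [3, 8]], [[1, 2, 6, 9]], [[4, 5, 6, 7]], [[3, 8]], [[5, 7]]]

theorem sq_check : ∀ i < 5, ((sqWords.getD i []).all fun w => decide ((∀ x ∈ w, x < pres.n) ∧
      (w.map chi).sum = 0)) = true ∧
    pres.collect 40 ((sqWords.getD i []).flatMap fun w => w ++ w) = pres.collect 40 [7 + i] := by
  decide +kernel

variable {P : Type*} [Group P] [Finite P] {γ : ℕ → P}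

/-- The element of a number below 32. -/
def elt (γ : ℕ → P) (a : ℕ) : P := Pres.ev γ (wd5 a)

omit [Finite P] in
theorem ev_eq_of_collect (hR : Pres.Rel γ pres) {u v : List ℕ} (hu : ∀ x ∈ u, x < pres.n)
    (hv : ∀ x ∈ v, x < pres.n) (h : pres.collect 40 u = pres.collect 40 v) :
    Pres.ev γ u = Pres.ev γ v := by
  rw [← Pres.ev_collect hR 40 u hu, ← Pres.ev_collect hR 40 v hv, h]

omit [Finite P] in
theorem elt_mul (hR : Pres.Rel γ pres) {a b : ℕ} (ha : a < 32) (hb : b < 32) :
    elt γ a * elt γ b = elt γ (a ^^^ b) := by
  rw [elt, elt, ← Pres.ev_append]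
  exact ev_eq_of_collect hR (fun x hx => (List.mem_append.1 hx).elim (wd5_lt a ha x) (wd5_lt b hb x))
    (wd5_lt _ (Nat.xor_lt_two_pow (n := 5) ha hb)) (mul_check a ha b hb)

omit [Finite P] in
theorem elt_act (hR : Pres.Rel γ pres) {a : ℕ} (ha : a < 32) {g p : List ℕ}
    (hgp : (g, p) ∈ [([1], p1), ([0, 2], p2)]) :
    p.getD a 0 < 32 ∧ (Pres.ev γ g)⁻¹ * elt γ a * Pres.ev γ g = elt γ (p.getD a 0) := by
  obtain ⟨hlt, h⟩ := act_check a ha _ hgp
  refine ⟨hlt, ?_⟩
  have hg : ∀ x ∈ g, x < pres.n := by
    intro x hx
    simp only [List.mem_cons, List.not_mem_nil, or_false, Prod.mk.injEq] at hgp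
    rcases hgp with ⟨rfl, -⟩ | ⟨rfl, -⟩
    · rw [List.mem_singleton] at hx; subst hx; decide
    · rcases List.mem_pair.1 hx with rfl | rfl <;> decide
  have := ev_eq_of_collect hR (fun x hx => (List.mem_append.1 hx).elim (wd5_lt a ha x) (hg x))
    (fun x hx => (List.mem_append.1 hx).elim (hg x) (wd5_lt _ hlt x)) h
  rw [Pres.ev_append, Pres.ev_append] at this
  rw [elt, elt, mul_assoc, this, inv_mul_cancel_left]

theorem range_elt (hR : Pres.Rel γ pres) (hcard : Nat.card (Pres.Sub γ pres 0) = 2 ^ pres.n) :
    Function.Injective (fun a : Fin 32 => elt γ a) ∧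
      ∀ x : P, x ∈ Pres.Sub γ pres 7 ↔ ∃ a < 32, elt γ a = x := by
  let R : Subgroup P :=
    { carrier := {x | ∃ a < 32, elt γ a = x}
      one_mem' := ⟨0, by norm_num, rfl⟩
      mul_mem' := by
        rintro _ _ ⟨a, ha, rfl⟩ ⟨b, hb, rfl⟩
        exact ⟨a ^^^ b, Nat.xor_lt_two_pow (n := 5) ha hb, (elt_mul hR ha hb).symm⟩
      inv_mem' := by
        rintro _ ⟨a, ha, rfl⟩
        refine ⟨a, ha, eq_inv_of_mul_eq_one_right ?_⟩
        rw [elt_mul hR ha ha, Nat.xor_self]
        rfl }
  have hle : Pres.Sub γ pres 7 ≤ R := by
    rw [Pres.Sub, Subgroup.closure_le]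
    rintro x ⟨i, hi, hi', rfl⟩
    have : i ≤ 11 := Nat.le_of_lt_succ hi'
    have h2 : ∀ i ≤ 11, 7 ≤ i → wd5 (2 ^ (i - 7)) = [i] ∧ 2 ^ (i - 7) < 32 := by decide +kernel
    obtain ⟨e, e'⟩ := h2 i this hi
    exact ⟨2 ^ (i - 7), e', by simp [elt, e, Pres.ev]⟩
  have hge : ∀ a < 32, elt γ a ∈ Pres.Sub γ pres 7 := fun a ha => Pres.ev_mem fun x hx =>
    ⟨by simp [wd5] at hx; omega, wd5_lt a ha x hx⟩
  refine ⟨?_, fun x => ⟨fun h => hle h, fun ⟨a, ha, e⟩ => e ▸ hge a ha⟩⟩
  let f : Fin 32 → ↥(Pres.Sub γ pres 7) := fun a => ⟨elt γ a, hge a a.2⟩
  have hf : Function.Surjective f := fun x => by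
    obtain ⟨a, ha, e⟩ := hle x.2
    exact ⟨⟨a, ha⟩, Subtype.ext e⟩
  have h1 := Pres.card_le hR 7 (k := 0) (show 0 + 7 ≤ pres.n by decide)
  rw [hcard, show pres.n = 7 + 5 from rfl, pow_add] at h1
  have h2 := Nat.le_of_mul_le_mul_left h1 (by norm_num)
  have hbij : Function.Bijective f := by
    haveI : Fintype ↥(Pres.Sub γ pres 7) := Fintype.ofFinite _
    refine (Fintype.bijective_iff_surjective_and_card f).2 ⟨hf, ?_⟩
    have h3 := Fintype.card_le_of_surjective f hf
    rw [Nat.card_eq_fintype_card] at h2
    rw [Fintype.card_fin] at h3 ⊢
    simp only [Nat.zero_add] at h2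
    omega
  intro a b h
  exact hbij.1 (Subtype.ext h)

/-- Large subgroups of `W` meet the central four-group. -/
theorem mem_of_relIndex (hR : Pres.Rel γ pres) (hcard : Nat.card (Pres.Sub γ pres 0) = 2 ^ pres.n)
    {W : Subgroup P} (hW0 : W ≤ Pres.Sub γ pres 0)
    (hW : ∀ w : List ℕ, (∀ x ∈ w, x < pres.n) → (w.map chi).sum = 0 → Pres.ev γ w ∈ W)
    (hp : IsPGroup 2 W) {H : Subgroup P} (hH : H ≤ W) (hidx : H.relIndex W ≤ 32) :
    (H.relIndex W ≤ 16 → elt γ 16 ∈ H) ∧ (elt γ 16 ∈ H ∨ elt γ 8 ∈ H ∨ elt γ 24 ∈ H) := by
  classical
  haveI : Fact (Nat.Prime 2) := ⟨Nat.prime_two⟩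
  by_cases hz : elt γ 16 ∈ H
  · exact ⟨fun _ => hz, Or.inl hz⟩
  obtain ⟨hinj, hmemE⟩ := range_elt hR hcard
  set E := Pres.Sub γ pres 7 with hE
  have hEW : E ≤ W := fun x hx => by
    obtain ⟨a, ha, rfl⟩ := (hmemE x).1 hx
    exact hW _ (wd5_lt a ha) (chi_wd5 a ha)
  have hWE : ∀ g ∈ W, ∀ x ∈ E, g⁻¹ * x * g ∈ E ∧ g * x * g⁻¹ ∈ E := by
    intro g hg x hx
    have hg0 : g ∈ Pres.Sub γ pres 0 := hW0 hg
    have hle : Pres.Sub γ pres 0 ≤ Subgroup.normalizer (E : Set P) := by
      rw [Pres.Sub, Subgroup.closure_le]
      rintro _ ⟨i, -, hi, rfl⟩
      rw [SetLike.mem_coe, Subgroup.mem_normalizer_iff]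
      intro h
      refine ⟨fun hh => (Pres.conj_mem hR hi hh).2, fun hh => ?_⟩
      have := (Pres.conj_mem hR hi hh).1
      simpa [mul_assoc] using this
    have hn := Subgroup.mem_normalizer_iff.1 (hle hg0)
    have hn' := Subgroup.mem_normalizer_iff.1 (inv_mem (hle hg0))
    exact ⟨by simpa using (hn' x).1 hx, (hn x).1 hx⟩
  set S := mk fun a => decide (elt γ a ∈ H) with hS
  have hbit : ∀ a < 32, (S.testBit a = true ↔ elt γ a ∈ H) := fun a ha => by
    rw [hS, testBit_mk]; simp [ha]
  obtain ⟨k, hk, l, L, hlev⟩ := mem_lev (fun a => decide (elt γ a ∈ H)) (by simp [elt, wd5, Pres.ev, one_mem])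
    (fun a ha b hb h1 h2 => by
      simp only [decide_eq_true_eq] at h1 h2 ⊢
      rw [← elt_mul hR ha hb]; exact mul_mem h1 h2)
    (by simp [hz])
  have hgood : good S L = true := List.all_eq_true.1 (lv_good k hk) _ hlev
  -- the masks of the conjugates
  let s : P → ℕ := fun g => mk fun a => decide (g⁻¹ * elt γ a * g ∈ H)
  set K := H ⊔ E with hK
  have hKW : K ≤ W := sup_le hH hEW
  have hconst : ∀ g ∈ W, ∀ k ∈ K, s (g * k) = s g := by
    have hD : K ≤ Subgroup.normalizer ((H ⊓ E : Subgroup P) : Set P) := by
      refine sup_le (fun h hh => ?_) (fun e he => ?_)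
      · rw [Subgroup.mem_normalizer_iff]
        intro x
        simp only [Subgroup.mem_inf]
        constructor
        · exact fun ⟨h1, h2⟩ => ⟨mul_mem (mul_mem hh h1) (inv_mem hh), (hWE h (hH hh) x h2).2⟩
        · rintro ⟨h1, h2⟩
          have h1' := mul_mem (mul_mem (inv_mem hh) h1) hh
          have h2' := (hWE h (hH hh) _ h2).1
          simp only [mul_assoc, inv_mul_cancel_left, inv_mul_cancel, mul_one] at h1' h2'
          exact ⟨h1', h2'⟩
      · rw [Subgroup.mem_normalizer_iff]
        intro x
        simp only [Subgroup.mem_inf]
        have hcomm : ∀ y ∈ E, e * y * e⁻¹ = y := by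
          intro y hy
          obtain ⟨a, ha, rfl⟩ := (hmemE e).1 he
          obtain ⟨b, hb, rfl⟩ := (hmemE y).1 hy
          rw [mul_inv_eq_iff_eq_mul, elt_mul hR ha hb, elt_mul hR hb ha, Nat.xor_comm]
        constructor
        · exact fun ⟨h1, h2⟩ => by rw [hcomm x h2]; exact ⟨h1, h2⟩
        · rintro ⟨h1, h2⟩
          have hx : x ∈ E := by
            have := mul_mem (mul_mem (inv_mem he) h2) he
            simpa [mul_assoc] using this
          rw [hcomm x hx] at h1
          exact ⟨h1, hx⟩
    intro g hg k hk
    refine Nat.eq_of_testBit_eq fun a => ?_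
    simp only [s, testBit_mk]
    by_cases ha : a < 32
    · have hx := (hWE g hg _ ((hmemE _).2 ⟨a, ha, rfl⟩)).1
      have h2 := Subgroup.mem_normalizer_iff.1 (inv_mem (hD hk)) (g⁻¹ * elt γ a * g)
      have hkE := (hWE k (hKW hk) _ hx).1
      simp only [Subgroup.mem_inf, hx, and_true, inv_inv, hkE] at h2
      simp only [ha, decide_true, Bool.true_and, decide_eq_decide]
      rw [show (g * k)⁻¹ * elt γ a * (g * k) = k⁻¹ * (g⁻¹ * elt γ a * g) * k by group]
      exact h2.symm
    · simp [ha]
  have hpre : ∀ U, (∃ g ∈ W, s g = U) →
      (∃ g ∈ W, s g = pre p1 U) ∧ ∃ g ∈ W, s g = pre p2 U := by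
    have step : ∀ g p, (g, p) ∈ [([1], p1), ([0, 2], p2)] → ∀ U, (∃ g ∈ W, s g = U) →
        ∃ g ∈ W, s g = pre p U := by
      rintro gw p hgp U ⟨g, hg, e⟩
      have hgw : (∀ x ∈ gw, x < pres.n) ∧ (gw.map chi).sum = 0 := act_words gw (by
        simp only [List.mem_cons, List.not_mem_nil, or_false, Prod.mk.injEq] at hgp ⊢
        exact hgp.imp And.left And.left)
      refine ⟨Pres.ev γ gw * g, mul_mem (hW gw hgw.1 hgw.2) hg, ?_⟩
      rw [← e]
      refine Nat.eq_of_testBit_eq fun a => ?_
      simp only [s, pre, testBit_mk]
      by_cases ha : a < 32
      · obtain ⟨hlt, hact⟩ := elt_act hR ha hgp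
        simp only [ha, hlt, decide_true, Bool.true_and, decide_eq_decide]
        rw [show (Pres.ev γ gw * g)⁻¹ * elt γ a * (Pres.ev γ gw * g) =
          g⁻¹ * ((Pres.ev γ gw)⁻¹ * elt γ a * Pres.ev γ gw) * g by group, hact]
      · simp [ha]
    exact fun U hU => ⟨step [1] p1 (by simp) U hU, step [0, 2] p2 (by simp) U hU⟩
  -- the index of `K`
  have hKcard : chk S [S] L = true → L.length + 1 ≤ K.relIndex W := by
    intro hchk
    obtain ⟨R, hnd, hlen, hR'⟩ := chk_sound S (fun T => ∃ g ∈ W, s g = T) ⟨1, one_mem _, by simp [s, hS]⟩
      hpre L [S] hchk (List.nodup_singleton S) (fun T hT => by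
        rw [List.mem_singleton] at hT
        exact ⟨1, one_mem _, by simp [s, hS, hT]⟩)
    have hsur : ∀ T ∈ R.toFinset, ∃ c : ↥W ⧸ K.subgroupOf W, s (c.out : P) = T := by
      intro T hT
      obtain ⟨g, hg, e⟩ := hR' T (List.mem_toFinset.1 hT)
      refine ⟨QuotientGroup.mk ⟨g, hg⟩, ?_⟩
      obtain ⟨k, hk⟩ := QuotientGroup.mk_out_eq_mul (K.subgroupOf W) ⟨g, hg⟩
      rw [hk, Subgroup.coe_mul, hconst g hg _ (Subgroup.mem_subgroupOf.1 k.2), e]
    choose c hc using hsur
    haveI : Fintype (↥W ⧸ K.subgroupOf W) := Fintype.ofFinite _
    rw [Subgroup.relIndex, Subgroup.index_eq_card, Nat.card_eq_fintype_card, ← Finset.card_univ,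
      show L.length + 1 = R.length by rw [hlen, List.length_singleton, Nat.add_comm],
      ← List.toFinset_card_of_nodup hnd]
    refine Finset.card_le_card_of_injOn (fun T => if h : T ∈ R.toFinset then c T h else
      QuotientGroup.mk 1) (fun T _ => Finset.mem_univ _) fun T hT U hU e => ?_
    simp only [Finset.mem_coe] at hT hU
    simp only [dif_pos hT, dif_pos hU] at e
    rw [← hc T hT, ← hc U hU, e]
  have hmul := Subgroup.relIndex_mul_relIndex H K W le_sup_left hKW
  have hne : H.relIndex K ≠ 0 := Subgroup.index_ne_zero_of_finite
  have hHE : H.relIndex E ≤ H.relIndex K := Subgroup.relIndex_le_of_le_right le_sup_right hne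
  have hDE : H.relIndex E * size S = 32 := by
    have h1 : Nat.card ↥(H.subgroupOf E) = size S := by
      rw [size, ← Fintype.card_coe, ← Nat.card_eq_fintype_card]
      refine (Nat.card_congr (Equiv.ofBijective
        (fun a : {a // a ∈ (Finset.range 32).filter fun a => S.testBit a = true} =>
          (⟨⟨elt γ a, (hmemE _).2 ⟨a, Finset.mem_range.1 (Finset.mem_filter.1 a.2).1, rfl⟩⟩,
            (hbit a (Finset.mem_range.1 (Finset.mem_filter.1 a.2).1)).1 (Finset.mem_filter.1 a.2).2⟩ :
            ↥(H.subgroupOf E))) ⟨?_, ?_⟩)).symm
      · intro a b e
        have ha := Finset.mem_range.1 (Finset.mem_filter.1 a.2).1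
        have hb := Finset.mem_range.1 (Finset.mem_filter.1 b.2).1
        have := @hinj ⟨a, ha⟩ ⟨b, hb⟩ (congrArg (fun x : ↥(H.subgroupOf E) => ((x : ↥E) : P)) e)
        exact Subtype.ext (congrArg Fin.val this)
      · rintro ⟨⟨x, hx⟩, hxH⟩
        obtain ⟨a, ha, rfl⟩ := (hmemE x).1 hx
        exact ⟨⟨a, Finset.mem_filter.2 ⟨Finset.mem_range.2 ha, (hbit a ha).2 hxH⟩⟩, rfl⟩
    have h2 : Nat.card ↥E = 32 := by
      rw [← Fintype.card_fin 32, ← Nat.card_eq_fintype_card]
      refine (Nat.card_congr (Equiv.ofBijective
        (fun a : Fin 32 => (⟨elt γ a, (hmemE _).2 ⟨a, a.2, rfl⟩⟩ : ↥E)) ⟨fun a b e =>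
          hinj (congrArg Subtype.val e), ?_⟩)).symm
      rintro ⟨x, hx⟩
      obtain ⟨a, ha, rfl⟩ := (hmemE x).1 hx
      exact ⟨⟨a, ha⟩, rfl⟩
    rw [← h1, Subgroup.relIndex, mul_comm, Subgroup.card_mul_index, h2]
  by_cases h1 : S = 1
  · -- the subgroup meets the normal one trivially
    have hs : size S = 1 := by rw [h1]; decide
    rw [hs, mul_one] at hDE
    have hKpos : 1 ≤ K.relIndex W :=
      Nat.one_le_iff_ne_zero.2 Subgroup.index_ne_zero_of_finite
    have h32 : 32 * K.relIndex W ≤ H.relIndex W := by
      rw [← hmul]; exact Nat.mul_le_mul_right _ (hDE ▸ hHE)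
    refine ⟨fun h16 => by omega, absurd ?_ hz⟩
    have hK1 : K.relIndex W = 1 := by omega
    have hWK : W ≤ K := Subgroup.relIndex_eq_one.1 hK1
    set H' := H.subgroupOf W
    suffices htop : H' ⊔ frattini ↥W = ⊤ by
      have := frattini_nongenerating htop
      have h16 : elt γ 16 ∈ W := hEW ((hmemE _).2 ⟨16, by norm_num, rfl⟩)
      have : (⟨_, h16⟩ : ↥W) ∈ H' := this ▸ Subgroup.mem_top _
      exact this
    rw [eq_top_iff]
    intro x _
    have hx : (x : P) ∈ H ⊔ E := hWK x.2
    have hle : H ⊔ E ≤ (H' ⊔ frattini ↥W).map W.subtype := by
      refine sup_le (fun h hh => ⟨⟨h, hH hh⟩, Subgroup.mem_sup_left hh, rfl⟩) ?_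
      rw [hE, Pres.Sub, Subgroup.closure_le]
      rintro _ ⟨i, hi7, hi, rfl⟩
      obtain ⟨hwords, hev⟩ := sq_check (i - 7) (by change i < 12 at hi; omega)
      simp only [List.all_eq_true, decide_eq_true_eq] at hwords
      have e2 := ev_eq_of_collect hR (fun x hx => by
          simp only [List.mem_flatMap, List.mem_append, or_self] at hx
          obtain ⟨w, hw, hx⟩ := hx
          exact (hwords w hw).1 x hx)
        (fun x hx => by rw [List.mem_singleton] at hx; omega) hev
      rw [show 7 + (i - 7) = i by omega] at e2
      rw [show γ i = Pres.ev γ [i] by simp [Pres.ev], ← e2]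
      clear e2 hev
      revert hwords
      induction sqWords.getD (i - 7) [] with
      | nil => exact fun _ => one_mem _
      | cons w L ih =>
        intro hwords
        rw [List.flatMap_cons, Pres.ev_append, Pres.ev_append]
        refine mul_mem ?_ (ih fun v hv => hwords v (List.mem_cons_of_mem _ hv))
        obtain ⟨hw1, hw2⟩ := hwords w List.mem_cons_self
        refine ⟨⟨_, hW w hw1 hw2⟩ ^ 2, Subgroup.mem_sup_right (PGroup.pow_mem_frattini hp _), ?_⟩
        simp [sq]
    obtain ⟨y, hy, e⟩ := hle hx
    rwa [← Subtype.ext e]
  · simp only [good, Bool.or_eq_true, beq_iff_eq, h1, false_or, Bool.and_eq_true,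
      decide_eq_true_eq] at hgood
    have hL := hKcard hgood.1.1
    have hb : K.relIndex W * 32 ≤ H.relIndex W * size S := by
      rw [← hmul, ← hDE, mul_comm (H.relIndex K) (K.relIndex W), mul_assoc]
      exact Nat.mul_le_mul_left _ (Nat.mul_le_mul_right _ hHE)
    refine ⟨fun h16 => absurd hgood.1.2 ?_, Or.inr ?_⟩
    · have := hb.trans (Nat.mul_le_mul_right (size S) h16)
      omega
    · rcases hgood.2 with (h8 | h24) | hlt
      · exact Or.inl ((hbit 8 (by norm_num)).1 h8)
      · exact Or.inr ((hbit 24 (by norm_num)).1 h24)
      · exfalso
        have := hb.trans (Nat.mul_le_mul_right (size S) hidx)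
        omega

end Cfsg.Agent.Twisted.Tits.USub
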