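/-
A group of the order of the Tits group with the local facts of that group has no doubly transitive
action.
-/
import Mathlib

set_option autoImplicit false
set_option linter.style.haveILetI false

namespace Cfsg.Agent.Twisted.Tits.TwoTrans

open MulAction

theorem degree_blocks : ∀ q < 67, ∀ r < 64,
    (64 * q + r) * (64 * q + r - 1) ∣ 17971200 → 64 * q + r < 48 ∨ 64 * q + r = 65 := by decide +kernel

theorem degree_cases (n : ℕ) (hn : n < 4241) (h : n * (n - 1) ∣ 17971200) : n < 48 ∨ n = 65 := by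
  have e : 64 * (n / 64) + n % 64 = n := Nat.div_add_mod n 64
  have := degree_blocks (n / 64) (by omega) (n % 64) (Nat.mod_lt _ (by norm_num))
  rw [e] at this
  exact this h

theorem degree_dvd {T Ω : Type*} [Group T] [Finite T] [Fintype Ω] [DecidableEq Ω] [MulAction T Ω]
    [IsMultiplyPretransitive T Ω 2] {a b : Ω} (hab : a ≠ b) :
    Fintype.card Ω * (Fintype.card Ω - 1) * Nat.card ↥(stabilizer T (a, b)) = Nat.card T := by
  have hset : orbit T (a, b) = ↑(Finset.univ.offDiag : Finset (Ω × Ω)) := by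
    ext ⟨c, d⟩
    simp only [Finset.coe_offDiag, Set.mem_offDiag, Finset.coe_univ, Set.mem_univ, true_and,
      MulAction.mem_orbit_iff]
    constructor
    · rintro ⟨g, hg⟩
      rw [Prod.smul_mk, Prod.mk.injEq] at hg
      rw [← hg.1, ← hg.2]
      exact fun h => hab ((MulAction.injective g) h)
    · intro hcd
      obtain ⟨g, h1, h2⟩ := (is_two_pretransitive_iff).1 ‹_› hab hcd
      exact ⟨g, by rw [Prod.smul_mk, h1, h2]⟩
  have h := index_stabilizer T (a, b)
  have hc : Nat.card (orbit T (a, b)) = Fintype.card Ω * (Fintype.card Ω - 1) := by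
    rw [hset, Nat.card_coe_set_eq, Set.ncard_coe_finset, Finset.offDiag_card, Finset.card_univ, Nat.mul_sub_one]
  rw [← Subgroup.card_mul_index (stabilizer T (a, b)), h, ← hc, Nat.card_coe_set_eq, mul_comm]

theorem not_two_transitive {T Ω : Type*} [Group T] [Finite T] [Fintype Ω] [MulAction T Ω]
    [FaithfulSMul T Ω] (hT : Nat.card T = 17971200) (W : Subgroup T) (hW : Nat.card W = 2 ^ 11)
    {z y : T} (hz : z ∈ W) (hz1 : z ≠ 1) (hzc : ∀ g ∈ W, z * g = g * z)
    (hy : IsConj z y) (hyz : IsConj z (y * z))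
    (hL : ∀ H ≤ W, H.relIndex W ≤ 32 →
      (H.relIndex W ≤ 16 → z ∈ H) ∧ (z ∈ H ∨ y ∈ H ∨ y * z ∈ H))
    (hgen : ∀ M : Subgroup T, W ≤ M → (∀ g, g * z * g⁻¹ ∈ W → g ∈ M) → M = ⊤)
    (hΩ : 3 ≤ Fintype.card Ω) : ¬ IsMultiplyPretransitive T Ω 2 := by
  intro h2
  classical
  haveI : Fact (Nat.Prime 2) := ⟨Nat.prime_two⟩
  have hWp : IsPGroup 2 W := IsPGroup.of_card hW
  have hkey : ∀ a : Ω, ∀ j, (W ⊓ stabilizer T a).relIndex W = j →
      Nat.card (orbit ↥W a) = j := by
    intro a j hj
    rw [← hj, Nat.card_coe_set_eq, ← index_stabilizer ↥W a, Subgroup.inf_relIndex_left,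
      Subgroup.relIndex]
    rfl
  obtain ⟨a₀, b₀, hab₀⟩ := Fintype.exists_pair_of_one_lt_card (α := Ω) (by omega)
  have hdeg := degree_dvd (T := T) hab₀
  rw [hT] at hdeg
  have hle : Fintype.card Ω < 4241 := by
    have h1 : Fintype.card Ω * (Fintype.card Ω - 1) ≤ 17971200 :=
      hdeg ▸ Nat.le_mul_of_pos_right _ Nat.card_pos
    by_contra h
    have := Nat.mul_le_mul (Nat.not_lt.1 h) (show 4240 ≤ Fintype.card Ω - 1 by omega)
    omega
  rcases degree_cases _ hle ⟨_, hdeg.symm⟩ with hn | hn
  · -- small degrees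
    let F : T → Finset Ω := fun g => Finset.univ.filter fun a => g • a = a
    have hF : ∀ {g g' : T}, IsConj g g' → (F g').card = (F g).card := by
      intro g g' hc
      obtain ⟨c, rfl⟩ := isConj_iff.1 hc
      refine Finset.card_bij' (fun a _ => c⁻¹ • a) (fun a _ => c • a) ?_ ?_ ?_ ?_ <;>
        simp [F, mul_smul, eq_inv_smul_iff, inv_smul_eq_iff]
    have hfix : ∀ {g : T} {a : Ω}, g ∈ W ⊓ stabilizer T a → g • a = a := fun hg =>
      mem_stabilizer_iff.1 hg.2
    obtain ⟨a, ha⟩ : ∃ a : Ω, z • a ≠ a := by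
      by_contra h
      push Not at h
      exact hz1 (FaithfulSMul.eq_of_smul_eq_smul fun a => by rw [h a, one_smul])
    have horb : ∀ b : Ω, (W ⊓ stabilizer T b).relIndex W ≤ 32 := by
      intro b
      set j := (W ⊓ stabilizer T b).relIndex W
      have hdvd : j ∣ 2 ^ 11 := hW ▸ Subgroup.relIndex_dvd_card (W ⊓ stabilizer T b) W
      obtain ⟨k, hk, hj⟩ := (Nat.dvd_prime_pow Nat.prime_two).1 hdvd
      have hcard := hkey b j rfl
      have : j ≤ Fintype.card Ω := by
        rw [← hcard, ← Nat.card_eq_fintype_card]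
        exact Finite.card_subtype_le _
      rw [hj] at this ⊢
      have h64 : k < 6 := by
        by_contra h
        have := Nat.pow_le_pow_right (show 1 ≤ 2 by norm_num) (Nat.not_lt.1 h)
        omega
      exact (Nat.pow_le_pow_right (by norm_num) (show k ≤ 5 by omega)).trans (by norm_num)
    have hcover : Finset.univ \ F z ⊆ F y ∪ F (y * z) := by
      intro b hb
      simp only [Finset.mem_sdiff, Finset.mem_univ, true_and, F, Finset.mem_filter] at hb
      rcases (hL _ inf_le_left (horb b)).2 with h | h | h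
      · exact absurd (hfix h) hb
      · exact Finset.mem_union_left _ (by simp [F, hfix h])
      · exact Finset.mem_union_right _ (by simp [F, hfix h])
    have h1 : Fintype.card Ω - (F z).card ≤ (F z).card + (F z).card := by
      have := (Finset.card_le_card hcover).trans (Finset.card_union_le _ _)
      rwa [hF hy, hF hyz, Finset.card_sdiff_of_subset (Finset.subset_univ _), Finset.card_univ] at this
    have h3 : 17 ≤ (W ⊓ stabilizer T a).relIndex W := by
      by_contra h
      exact ha (hfix ((hL _ inf_le_left (horb a)).1 (by omega)))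
    have h32 : 32 ≤ (W ⊓ stabilizer T a).relIndex W := by
      obtain ⟨k, hk, hj⟩ := (Nat.dvd_prime_pow Nat.prime_two).1
        (hW ▸ Subgroup.relIndex_dvd_card (W ⊓ stabilizer T a) W)
      rw [hj] at h3 ⊢
      have : 5 ≤ k := by
        by_contra h
        have := Nat.pow_le_pow_right (show 1 ≤ 2 by norm_num) (show k ≤ 4 by omega)
        omega
      exact le_trans (by norm_num) (Nat.pow_le_pow_right (show 1 ≤ 2 by norm_num) this)
    have h4 : (orbit ↥W a).toFinset ⊆ Finset.univ \ F z := by
      intro b hb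
      rw [Set.mem_toFinset] at hb
      obtain ⟨g, rfl⟩ := hb
      simp only [Finset.mem_sdiff, Finset.mem_univ, true_and, F, Finset.mem_filter]
      intro h
      refine ha ((MulAction.injective (g : T)) ?_)
      show (g : T) • z • a = (g : T) • a
      rw [← mul_smul, ← hzc g g.2, mul_smul]
      exact h
    have h5 := Finset.card_le_card h4
    rw [Set.toFinset_card, ← Nat.card_eq_fintype_card, hkey a _ rfl,
      Finset.card_sdiff_of_subset (Finset.subset_univ _), Finset.card_univ] at h5
    omega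
  · -- degree 65
    obtain ⟨a, ha⟩ := hWp.nonempty_fixed_point_of_prime_not_dvd_card Ω
      (by rw [Nat.card_eq_fintype_card, hn]; norm_num)
    have hafix : ∀ g ∈ W, g • a = a := fun g hg => ha ⟨g, hg⟩
    have hbig : ∀ b : Ω, b ≠ a → 64 ≤ Nat.card (orbit ↥W b) := by
      intro b hb
      have hd := degree_dvd (T := T) (Ne.symm hb)
      rw [hT, hn] at hd
      have h4320 : Nat.card ↥(stabilizer T (a, b)) = 4320 := by omega
      have hsub : W ⊓ stabilizer T b ≤ stabilizer T (a, b) := fun g hg => by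
        rw [mem_stabilizer_iff, Prod.smul_mk, hafix g hg.1, mem_stabilizer_iff.1 hg.2]
      have hd1 : Nat.card ↥(W ⊓ stabilizer T b) ∣ Nat.gcd (2 ^ 11) 4320 :=
        Nat.dvd_gcd (hW ▸ Subgroup.card_dvd_of_le inf_le_left) (h4320 ▸ Subgroup.card_dvd_of_le hsub)
      have hle32 := Nat.le_of_dvd (by norm_num) hd1
      rw [hkey b _ rfl]
      have hm := Subgroup.card_mul_index ((W ⊓ stabilizer T b).subgroupOf W)
      rw [Nat.card_congr (Subgroup.subgroupOfEquivOfLe inf_le_left).toEquiv, hW] at hm
      change Nat.card ↥(W ⊓ stabilizer T b) * (W ⊓ stabilizer T b).relIndex W = 2 ^ 11 at hm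
      have : (32 : ℕ) = Nat.gcd (2 ^ 11) 4320 := by decide +kernel
      rw [← this] at hle32
      nlinarith
    have hall : ∀ b c : Ω, b ≠ a → c ≠ a → c ∈ orbit ↥W b := by
      intro b c hb hc
      have hsub : orbit ↥W b ⊆ ({a}ᶜ : Set Ω) := by
        rintro _ ⟨g, rfl⟩ (h : g.1 • b = a)
        exact hb ((MulAction.injective (g : T)) (h.trans (hafix g g.2).symm))
      have hcard : ({a}ᶜ : Set Ω).ncard = 64 := by
        rw [Set.ncard_compl, Set.ncard_singleton, Nat.card_eq_fintype_card, hn]
      rw [Set.eq_of_subset_of_ncard_le hsub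
        (by rw [hcard, ← Nat.card_coe_set_eq]; exact hbig b hb) (Set.toFinite _)]
      exact hc
    have hFz : ∀ b : Ω, z • b = b → b = a := by
      intro b hb
      by_contra hne
      refine hz1 (FaithfulSMul.eq_of_smul_eq_smul (α := Ω) fun c => ?_)
      rw [one_smul]
      by_cases hc : c = a
      · rw [hc, hafix z hz]
      obtain ⟨g, rfl⟩ := hall b c hne hc
      show z • (g : T) • b = (g : T) • b
      rw [← mul_smul, hzc g g.2, mul_smul, hb]
    have htop := hgen (stabilizer T a) (fun g hg => mem_stabilizer_iff.2 (hafix g hg)) fun g hg => by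
      have h := hafix _ hg
      rw [mul_smul, mul_smul] at h
      have h' : z • g⁻¹ • a = g⁻¹ • a := by rw [← smul_left_cancel_iff g, h, smul_inv_smul]
      rw [mem_stabilizer_iff, ← inv_smul_eq_iff.1 (hFz _ h')]
    haveI := isPretransitive_of_is_two_pretransitive (G := T) (α := Ω)
    obtain ⟨b, hb⟩ := Fintype.exists_ne_of_one_lt_card (α := Ω) (by omega) a
    obtain ⟨g, hg⟩ := exists_smul_eq T a b
    exact hb (hg ▸ mem_stabilizer_iff.1 (htop.ge (Subgroup.mem_top g)))

end Cfsg.Agent.Twisted.Tits.TwoTrans
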