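/-
The Tits group has no doubly transitive action: the local facts in the model.
-/
import Cfsg.Agent.Lib.Twisted.Tits.Simple
import Cfsg.Agent.Lib.Twisted.Tits.SubgroupsU
import Cfsg.Agent.Lib.Twisted.Tits.TwoTrans

set_option autoImplicit false
set_option linter.style.haveILetI false

namespace Cfsg.Agent.Twisted.Tits

open Cfsg.Lie Chev BNSetup
open Cfsg.Agent.RootBN (OTwist)
open Cfsg.Agent.RootBN.OTwist
open Cfsg.Agent.Twisted.F4

/-- The images of some generators under the two simple reflections. -/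
theorem img_check : imgW [0] (wd 11) = wd 10 ∧ imgW [1] (wd 11) = wd 11 ∧ imgW [0] (wd 2) = wd 0 ∧
    imgW [1] (wd 2) = wd 4 := by decide +kernel

theorem simp_pos_check : ∀ j : Fin 2, 24 ≤ (rep (simp' j)).val := by decide +kernel

theorem wd5_vals : USub.wd5 16 = [11] ∧ USub.wd5 8 = [10] ∧ USub.wd5 24 = [10, 11] := by decide +kernel

theorem parity_tables : (∀ j < 11, pres.conj j 11 = [11]) ∧ pres.conj 1 10 = [10, 11] ∧
    chi 1 = 0 ∧ chi 10 = 0 ∧ chi 11 = 0 ∧ chi 0 = 1 ∧ chi 2 = 1 ∧ chi 4 = 1 := by decide +kernel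

variable {F : Type*} [Field F] [CharP F 2] [Fintype F] (hK : Fintype.card F = 2 ^ (2 * 0 + 1))
include hK

/-- The generators in the group. -/
noncomputable def gg (k : ℕ) : ↥(tw hK).Gt :=
  if h : k < 12 then ⟨gam k, U_le_Gt hK (gam_mem hK h)⟩ else 1

theorem coe_gg {k : ℕ} (h : k < 12) : ((gg hK k : ↥(tw hK).Gt) : G F) = gam k := by
  simp [gg, dif_pos h]

theorem coe_ev_gg {w : List ℕ} (h : ∀ x ∈ w, x < pres.n) :
    ((Pres.ev (gg hK) w : ↥(tw hK).Gt) : G F) = Pres.ev gam w := by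
  induction w with
  | nil => rfl
  | cons a w ih =>
    rw [Pres.ev_cons, Pres.ev_cons, Subgroup.coe_mul, coe_gg hK (h a List.mem_cons_self),
      ih fun x hx => h x (List.mem_cons_of_mem _ hx)]

theorem rel_gg : Pres.Rel (gg hK) pres where
  ok := pres_ok
  sq k hk := Subtype.ext (by
    rw [Subgroup.coe_mul, coe_gg hK hk, coe_ev_gg hK fun x hx => (pres_ok.1 k hk x hx).2]
    exact (pres_rel (F := F)).sq k hk)
  conj k hk j hj := Subtype.ext (by
    rw [Subgroup.coe_mul, Subgroup.coe_mul, coe_gg hK hk, coe_gg hK (lt_trans hj hk),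
      coe_ev_gg hK fun x hx => (pres_ok.2 k hk j hj x hx).2]
    exact (pres_rel (F := F)).conj k hk j hj)

theorem sub_gg : Pres.Sub (gg hK) pres 0 = (tw hK).data.U.subgroupOf (tw hK).Gt := by
  refine Subgroup.map_injective (Subgroup.subtype_injective _) ?_
  rw [Subgroup.map_subgroupOf_eq_of_le (U_le_Gt hK), ← sub_eq_U hK, Pres.Sub, Pres.Sub,
    MonoidHom.map_closure]
  congr 1
  ext x
  constructor
  · rintro ⟨_, ⟨i, hi, hi', rfl⟩, rfl⟩
    exact ⟨i, hi, hi', coe_gg hK hi'⟩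
  · rintro ⟨i, hi, hi', rfl⟩
    exact ⟨_, ⟨i, hi, hi', rfl⟩, coe_gg hK hi'⟩

theorem card_gg : Nat.card (Pres.Sub (gg hK) pres 0) = 2 ^ pres.n := by
  rw [sub_gg hK, Nat.card_congr (Subgroup.subgroupOfEquivOfLe (U_le_Gt hK)).toEquiv, ← sub_eq_U hK, card_sub hK]

theorem sgn_gg {k : ℕ} (h : k < 12) : sgn hK (gg hK k) = Multiplicative.ofAdd (chi k) := by
  rw [show gg hK k = ⟨gam k, U_le_Gt hK (gam_mem hK h)⟩ from dif_pos h]
  exact (sgn_U hK ⟨⟨gam k, U_le_Gt hK (gam_mem hK h)⟩, gam_mem hK h⟩).trans (par_gam hK h (gam_mem hK h))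

theorem sgn_ev {w : List ℕ} (h : ∀ x ∈ w, x < pres.n) :
    sgn hK (Pres.ev (gg hK) w) = Multiplicative.ofAdd (w.map chi).sum := by
  induction w with
  | nil => simp [Pres.ev]
  | cons a w ih =>
    rw [Pres.ev_cons, map_mul, sgn_gg hK (h a List.mem_cons_self),
      ih fun x hx => h x (List.mem_cons_of_mem _ hx)]
    rfl

/-- The Sylow 2-subgroup of the Tits group. -/
noncomputable def WT : Subgroup ↥(tw hK).Gt :=
  (tw hK).data.U.subgroupOf (tw hK).Gt ⊓ (sgn hK).ker

theorem mem_WT {x : ↥(tw hK).Gt} (h1 : x ∈ (tw hK).data.U.subgroupOf (tw hK).Gt) (h2 : sgn hK x = 1) :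
    x ∈ WT hK := Subgroup.mem_inf.2 ⟨h1, MonoidHom.mem_ker.2 h2⟩

theorem ev_mem_WT {w : List ℕ} (h : ∀ x ∈ w, x < pres.n) (h0 : (w.map chi).sum = 0) :
    Pres.ev (gg hK) w ∈ WT hK := by
  refine mem_WT hK ?_ (by rw [sgn_ev hK h, h0]; rfl)
  rw [← sub_gg hK]
  exact Pres.ev_mem fun x hx => ⟨Nat.zero_le x, h x hx⟩

theorem gg_mem_WT {k : ℕ} (h : k < 12) (h0 : chi k = 0) : gg hK k ∈ WT hK := by
  simpa [Pres.ev] using ev_mem_WT hK (w := [k]) (fun x hx => by rw [List.mem_singleton] at hx; subst hx; exact h) (by simpa using h0)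

theorem card_WT : Nat.card (WT hK) = 2 ^ 11 := by
  set Us := (tw hK).data.U.subgroupOf (tw hK).Gt
  set f := (sgn hK).comp Us.subtype
  have hsur : f.range = ⊤ := by
    rw [eq_top_iff]
    intro a _
    have key : ∀ a : Multiplicative (ZMod 2), a = 1 ∨ a = Multiplicative.ofAdd 1 := by decide
    rcases key a with rfl | rfl
    · exact one_mem _
    · refine ⟨⟨gg hK 0, ?_⟩, ?_⟩
      · simp only [Us]; rw [← sub_gg hK]; exact Pres.gen_mem le_rfl (by decide)
      · show sgn hK (gg hK 0) = _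
        rw [sgn_gg hK (by norm_num), parity_tables.2.2.2.2.2.1]
  have hidx : f.ker.index = 2 := by
    rw [Subgroup.index_ker, hsur, Subgroup.card_top, Nat.card_eq_fintype_card]; rfl
  have h1 := Subgroup.card_mul_index f.ker
  have h2 : Nat.card Us = 2 ^ 12 := by
    simp only [Us]; rw [← sub_gg hK, card_gg hK]; rfl
  have h3 : Nat.card f.ker = Nat.card (WT hK) := by
    refine Nat.card_congr ⟨fun x => ⟨x.1.1, x.1.2, x.2⟩, fun x => ⟨⟨x.1, x.2.1⟩, x.2.2⟩, ?_, ?_⟩ <;>
      intro x <;> rfl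
  rw [hidx, h2, h3] at h1
  omega

theorem nw_mem_Gt (l : List (Fin 2)) : (tw hK).data.nw l ∈ (tw hK).Gt :=
  Subgroup.list_prod_mem _ fun x hx => by
    obtain ⟨i, -, rfl⟩ := List.mem_map.1 hx
    exact nn'_mem hK i

/-- The simple reflections in the group. -/
noncomputable def nG (i : Fin 2) : ↥(tw hK).Gt := ⟨(tw hK).data.nw [i], nw_mem_Gt hK [i]⟩

theorem nG_sgn (i : Fin 2) : sgn hK (nG hK i) = 1 := by
  refine sgn_involution hK (Subtype.ext ?_)
  simp only [nG, Subgroup.coe_mul, RootBN.Data.nw_cons, RootBN.Data.nw_nil, mul_one]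
  exact nn_sq_one hK i

theorem nG_conj (i : Fin 2) {k k' : ℕ} (hk : k < 12) (hk' : k' < 12) (h : imgW [i] (wd k) = wd k') :
    nG hK i * gg hK k * (nG hK i)⁻¹ = gg hK k' := by
  refine Subtype.ext ?_
  simp only [nG, Subgroup.coe_mul, Subgroup.coe_inv, coe_gg hK hk, coe_gg hK hk']
  rw [gam, nw_conj_wordG hK _ (wd_lt k hk), h]
  rfl

theorem generated (N : Subgroup ↥(tw hK).Gt) (hU : Pres.Sub (gg hK) pres 0 ≤ N)
    (hn : ∀ i, nG hK i ∈ N) : N = ⊤ := by
  have hnw : ∀ l : List (Fin 2), (⟨_, nw_mem_Gt hK l⟩ : ↥(tw hK).Gt) ∈ N := by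
    intro l
    induction l with
    | nil => exact (show (⟨(tw hK).data.nw [], nw_mem_Gt hK []⟩ : ↥(tw hK).Gt) = 1 from
        Subtype.ext (RootBN.Data.nw_nil (D := (tw hK).data))) ▸ one_mem N
    | cons a l ih =>
      have : (⟨_, nw_mem_Gt hK (a :: l)⟩ : ↥(tw hK).Gt) = nG hK a * ⟨_, nw_mem_Gt hK l⟩ :=
        Subtype.ext (by simp [nG, RootBN.Data.nw_cons])
      rw [this]; exact mul_mem (hn a) ih
  rw [sub_gg hK] at hU
  have hle : (tw hK).Gt ≤ N.map (tw hK).Gt.subtype := by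
    refine iSup_le fun o y hy => ?_
    obtain ⟨z, hz, rfl⟩ := (mem_X'_iff hK o y).1 hy
    have hzU : z ∈ (tw hK).data.U :=
      RootBN.Data.X_le_U (D := (tw hK).data) ((data_pos hK _).2 (simp_pos_check _)) hz
    refine ⟨⟨_, nw_mem_Gt hK (reachW o).1⟩ * ⟨z, U_le_Gt hK hzU⟩ * ⟨_, nw_mem_Gt hK (reachW o).1⟩⁻¹, ?_,
      by simp only [Subgroup.coe_subtype, Subgroup.coe_mul, Subgroup.coe_inv]⟩
    exact mul_mem (mul_mem (hnw _) (hU (Subgroup.mem_subgroupOf.2 hzU))) (inv_mem (hnw _))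
  rw [eq_top_iff]
  intro g _
  obtain ⟨g', hg', e⟩ := hle g.2
  rwa [← Subtype.ext e]

theorem ker_simple : IsSimpleGroup ↥(sgn hK).ker := by
  haveI := (simple_commutator hK).1
  rw [← commutator_eq_ker hK]
  have e : (commutator ↥(tw hK).Gt).map (equivTwisted hK).toMonoidHom =
      commutator ↥(twistedF4 F (2 ^ 0)) := by
    rw [commutator_def, Subgroup.map_commutator,
      Subgroup.map_top_of_surjective _ (equivTwisted hK).surjective, commutator_def]
  exact ((Subgroup.equivMapOfInjective _ _ (equivTwisted hK).injective).trans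
    (MulEquiv.subgroupCongr e)).isSimpleGroup

theorem closure_eq_ker :
    Subgroup.closure ((WT hK : Set ↥(tw hK).Gt) ∪ {nG hK 0, nG hK 1}) = (sgn hK).ker := by
  set M := Subgroup.closure ((WT hK : Set ↥(tw hK).Gt) ∪ {nG hK 0, nG hK 1})
  have hWM : WT hK ≤ M := fun x hx => Subgroup.subset_closure (Or.inl hx)
  have hnM : ∀ i, nG hK i ∈ M := fun i => Subgroup.subset_closure (Or.inr (by fin_cases i <;> simp))
  have hMker : M ≤ (sgn hK).ker := by
    rw [Subgroup.closure_le]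
    rintro x (hx | rfl | rfl)
    · exact hx.2
    · exact nG_sgn hK 0
    · exact nG_sgn hK 1
  have hc := parity_tables
  have hg2 : gg hK 2 ∈ (tw hK).data.U.subgroupOf (tw hK).Gt := by
    rw [← sub_gg hK]; exact Pres.gen_mem (Nat.zero_le 2) (by decide)
  have h2 : gg hK 2 ∈ Subgroup.normalizer (M : Set ↥(tw hK).Gt) := by
    have key : M ≤ M.comap (MulAut.conj (gg hK 2)).toMonoidHom := by
      rw [Subgroup.closure_le]
      have hni : ∀ (i : Fin 2) (k : ℕ), k < 12 → chi k = 1 → imgW [i] (wd 2) = wd k →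
          gg hK 2 * nG hK i * (gg hK 2)⁻¹ ∈ M := by
        intro i k hk hchi e
        have h := nG_conj hK i (show 2 < 12 by norm_num) hk e
        rw [show gg hK 2 * nG hK i * (gg hK 2)⁻¹ =
          gg hK 2 * (nG hK i * gg hK 2 * (nG hK i)⁻¹)⁻¹ * nG hK i by group, h]
        refine mul_mem (hWM (mem_WT hK ?_ ?_)) (hnM i)
        · refine mul_mem hg2 (inv_mem ?_)
          rw [← sub_gg hK]; exact Pres.gen_mem (Nat.zero_le k) hk
        · rw [map_mul, map_inv, sgn_gg hK (by norm_num),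
            sgn_gg hK hk, hchi, hc.2.2.2.2.2.2.1, mul_inv_cancel]
      rintro x (hx | rfl | rfl)
      · refine hWM (mem_WT hK (mul_mem (mul_mem hg2 hx.1) (inv_mem hg2)) ?_)
        exact MonoidHom.mem_ker.1 ((MonoidHom.normal_ker (sgn hK)).conj_mem x hx.2 _)
      · exact hni 0 0 (by norm_num) hc.2.2.2.2.2.1 img_check.2.2.1
      · exact hni 1 4 (by norm_num) hc.2.2.2.2.2.2.2 img_check.2.2.2
    exact Subgroup.mem_normalizer_fintype fun n hn => key hn
  have hN : Subgroup.normalizer (M : Set ↥(tw hK).Gt) = ⊤ := by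
    refine generated hK _ (fun x hx => ?_) fun i => Subgroup.le_normalizer (hnM i)
    rw [sub_gg hK] at hx
    have hcases : ∀ a : Multiplicative (ZMod 2), a = 1 ∨ a = Multiplicative.ofAdd 1 := by decide
    rcases hcases (sgn hK x) with h | h
    · exact Subgroup.le_normalizer (hWM (mem_WT hK hx h))
    · have : (gg hK 2)⁻¹ * x ∈ WT hK := mem_WT hK (mul_mem (inv_mem hg2) hx) (by
        rw [map_mul, map_inv, sgn_gg hK (by norm_num), h, hc.2.2.2.2.2.2.1, inv_mul_cancel])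
      have := mul_mem h2 (Subgroup.le_normalizer (hWM this))
      rwa [mul_inv_cancel_left] at this
  haveI := Subgroup.normalizer_eq_top_iff.1 hN
  haveI : (M.subgroupOf (sgn hK).ker).Normal := Subgroup.Normal.subgroupOf ‹M.Normal› _
  rcases (ker_simple hK).eq_bot_or_eq_top_of_normal _ ‹(M.subgroupOf (sgn hK).ker).Normal› with h | h
  · exfalso
    have hW : WT hK = ⊥ := by
      rw [eq_bot_iff]
      intro x hx
      rw [Subgroup.subgroupOf_eq_bot, disjoint_iff, inf_eq_left.2 hMker] at h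
      exact h ▸ hWM hx
    have := card_WT hK
    rw [hW, Subgroup.card_bot] at this
    norm_num at this
  · exact le_antisymm hMker (Subgroup.subgroupOf_eq_top.1 h)

theorem not_two_transitive_ker {Ω : Type*} [Fintype Ω] [MulAction ↥(sgn hK).ker Ω]
    [FaithfulSMul ↥(sgn hK).ker Ω] (hΩ : 3 ≤ Fintype.card Ω) :
    ¬ MulAction.IsMultiplyPretransitive ↥(sgn hK).ker Ω 2 := by
  have hR := rel_gg hK
  have hc := parity_tables
  have hWk : WT hK ≤ (sgn hK).ker := inf_le_right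
  have hz : gg hK 11 ∈ WT hK := gg_mem_WT hK (by norm_num) hc.2.2.2.2.1
  have hy : gg hK 10 ∈ WT hK := gg_mem_WT hK (by norm_num) hc.2.2.2.1
  have h1 : gg hK 1 ∈ WT hK := gg_mem_WT hK (by norm_num) hc.2.2.1
  set zT : ↥(sgn hK).ker := ⟨gg hK 11, hWk hz⟩
  set yT : ↥(sgn hK).ker := ⟨gg hK 10, hWk hy⟩
  have hn0 := nG_conj hK 0 (show 11 < 12 by norm_num) (show 10 < 12 by norm_num) img_check.1
  have hn1 := nG_conj hK 1 (show 11 < 12 by norm_num) (show 11 < 12 by norm_num) img_check.2.1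
  have hzy : IsConj zT yT := isConj_iff.2 ⟨⟨nG hK 0, nG_sgn hK 0⟩, Subtype.ext hn0⟩
  have hcard : Nat.card ↥(sgn hK).ker = 17971200 := by
    have := Subgroup.card_mul_index (sgn hK).ker
    rw [Subgroup.index_ker, MonoidHom.range_eq_top.2 (sgn_surjective hK), Subgroup.card_top,
      Nat.card_eq_fintype_card (α := Multiplicative (ZMod 2)), card_Gt hK] at this
    have h2 : Fintype.card (Multiplicative (ZMod 2)) = 2 := rfl
    rw [h2] at this
    omega
  refine TwoTrans.not_two_transitive (z := zT) (y := yT) hcard ((WT hK).subgroupOf (sgn hK).ker)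
    (by rw [Nat.card_congr (Subgroup.subgroupOfEquivOfLe hWk).toEquiv, card_WT hK])
    (Subgroup.mem_subgroupOf.2 hz) ?_ ?_ hzy ?_ ?_ ?_ hΩ
  · intro h
    have h' : gg hK 11 = 1 := congrArg Subtype.val h
    exact Pres.gen_not_mem hR (card_gg hK) (show 11 < pres.n by decide) (h' ▸ one_mem _)
  · intro g hg
    have hle : Pres.Sub (gg hK) pres 0 ≤ Subgroup.centralizer {gg hK 11} := by
      rw [Pres.Sub, Subgroup.closure_le]
      rintro _ ⟨j, -, hj, rfl⟩
      rw [SetLike.mem_coe, Subgroup.mem_centralizer_singleton_iff]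
      rcases Nat.lt_or_ge j 11 with h | h
      · have := hR.conj 11 (by decide) j h
        rw [hc.1 j h, Pres.ev_cons, Pres.ev_nil, mul_one] at this
        exact this.symm
      · obtain rfl : j = 11 := by change j < 12 at hj; omega
        rfl
    have := Subgroup.mem_centralizer_singleton_iff.1 (hle (sub_gg hK ▸ (Subgroup.mem_subgroupOf.1 hg).1))
    exact Subtype.ext this.symm
  · refine hzy.trans (isConj_iff.2 ⟨⟨(gg hK 1)⁻¹, inv_mem (hWk h1)⟩, Subtype.ext ?_⟩)
    have := hR.conj 10 (by decide) 1 (by norm_num)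
    rw [hc.2.1, Pres.ev_cons, Pres.ev_cons, Pres.ev_nil, mul_one] at this
    show (gg hK 1)⁻¹ * gg hK 10 * ((gg hK 1)⁻¹)⁻¹ = gg hK 10 * gg hK 11
    rw [inv_inv, mul_assoc, this, inv_mul_cancel_left]
  · intro H hH hidx
    have hHm : H.map (sgn hK).ker.subtype ≤ WT hK := by
      rintro _ ⟨x, hx, rfl⟩; exact hH hx
    have hrel : (H.map (sgn hK).ker.subtype).relIndex (WT hK) =
        H.relIndex ((WT hK).subgroupOf (sgn hK).ker) := by
      conv_lhs => rw [← Subgroup.map_subgroupOf_eq_of_le hWk]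
      exact Subgroup.relIndex_map_map_of_injective _ _ (Subgroup.subtype_injective _)
    obtain ⟨ha, hb⟩ := USub.mem_of_relIndex hR (card_gg hK) (inf_le_left.trans (sub_gg hK).ge)
      (fun w hw h0 => ev_mem_WT hK hw h0) (IsPGroup.of_card (card_WT hK)) hHm (hrel ▸ hidx)
    have e16 : USub.elt (gg hK) 16 = gg hK 11 := by
      simp [USub.elt, wd5_vals.1, Pres.ev]
    have e8 : USub.elt (gg hK) 8 = gg hK 10 := by
      simp [USub.elt, wd5_vals.2.1, Pres.ev]
    have e24 : USub.elt (gg hK) 24 = gg hK 10 * gg hK 11 := by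
      simp [USub.elt, wd5_vals.2.2, Pres.ev]
    have back : ∀ x : ↥(sgn hK).ker, (x : ↥(tw hK).Gt) ∈ H.map (sgn hK).ker.subtype → x ∈ H := by
      rintro x ⟨x', hx', e⟩
      rwa [← Subtype.ext e]
    rw [e16] at ha hb; rw [e8, e24] at hb
    refine ⟨fun h => back zT (ha (hrel ▸ h)), ?_⟩
    rcases hb with h | h | h
    · exact Or.inl (back zT h)
    · exact Or.inr (Or.inl (back yT h))
    · exact Or.inr (Or.inr (back (yT * zT) h))
  · intro M hWM hgM
    have key : (sgn hK).ker ≤ M.map (sgn hK).ker.subtype := by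
      refine (closure_eq_ker hK).ge.trans ((Subgroup.closure_le _).2 ?_)
      rintro x (hx | rfl | rfl)
      · exact ⟨⟨x, hWk hx⟩, hWM hx, rfl⟩
      · refine ⟨⟨_, nG_sgn hK 0⟩, hgM _ ?_, rfl⟩
        exact Subgroup.mem_subgroupOf.2 (show nG hK 0 * gg hK 11 * (nG hK 0)⁻¹ ∈ WT hK by rw [hn0]; exact hy)
      · refine ⟨⟨_, nG_sgn hK 1⟩, hgM _ ?_, rfl⟩
        exact Subgroup.mem_subgroupOf.2 (show nG hK 1 * gg hK 11 * (nG hK 1)⁻¹ ∈ WT hK by rw [hn1]; exact hz)
    rw [eq_top_iff]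
    intro x _
    obtain ⟨x', hx', e⟩ := key x.2
    rwa [← Subtype.ext e]

theorem not_two_transitive_commutator {Ω : Type*} [Fintype Ω]
    [MulAction ↥(commutator ↥(twistedF4 F (2 ^ 0))) Ω]
    [FaithfulSMul ↥(commutator ↥(twistedF4 F (2 ^ 0))) Ω] (hΩ : 3 ≤ Fintype.card Ω) :
    ¬ MulAction.IsMultiplyPretransitive ↥(commutator ↥(twistedF4 F (2 ^ 0))) Ω 2 := by
  have e : (commutator ↥(tw hK).Gt).map (equivTwisted hK).toMonoidHom =
      commutator ↥(twistedF4 F (2 ^ 0)) := by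
    rw [commutator_def, Subgroup.map_commutator,
      Subgroup.map_top_of_surjective _ (equivTwisted hK).surjective, commutator_def]
  let φ : ↥(sgn hK).ker ≃* ↥(commutator ↥(twistedF4 F (2 ^ 0))) :=
    (MulEquiv.subgroupCongr (commutator_eq_ker hK).symm).trans
      ((Subgroup.equivMapOfInjective _ _ (equivTwisted hK).injective).trans (MulEquiv.subgroupCongr e))
  letI := MulAction.compHom Ω φ.toMonoidHom
  haveI : FaithfulSMul ↥(sgn hK).ker Ω :=
    ⟨fun h => φ.injective (FaithfulSMul.eq_of_smul_eq_smul h)⟩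
  intro h2
  refine not_two_transitive_ker hK (Ω := Ω) hΩ (MulAction.is_two_pretransitive_iff.2 fun {a b c d} hab hcd => ?_)
  obtain ⟨g, h1, h3⟩ := MulAction.is_two_pretransitive_iff.1 h2 hab hcd
  refine ⟨φ.symm g, ?_, ?_⟩
  · show φ (φ.symm g) • a = c
    rwa [MulEquiv.apply_symm_apply]
  · show φ (φ.symm g) • b = d
    rwa [MulEquiv.apply_symm_apply]

end Cfsg.Agent.Twisted.Tits
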